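import Cfsg.Agent.Lib.Aschbacher.SpExplicit.Dims

/-!
Tensor decompositions of a symplectic form: pure tensors and the factors of an isometry.
-/

set_option autoImplicit false

namespace Cfsg.Agent.Aschbacher.SpExplicit

open Matrix
open scoped MatrixGroups Kronecker

variable {ι : Type} [Fintype ι] [DecidableEq ι] {F : Type*} [Field F]
  {f : (ι → F) → (ι → F) → F} {n₁ n₂ : ℕ}

theorem bilinear_eq_gram {κ : Type} [Fintype κ] [DecidableEq κ] {g : (κ → F) → (κ → F) → F}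
    (hg : Geo.IsBilinearForm g) (u v : κ → F) :
    g u v = ∑ a, ∑ b, u a * Geo.gramMatrix g a b * v b := by
  show MaxCl.toBil hg u v = _
  conv_lhs => rw [pi_eq_sum_univ' u, pi_eq_sum_univ' v]
  simp only [map_sum, map_smul, LinearMap.sum_apply, LinearMap.smul_apply, smul_eq_mul, MaxCl.toBil_apply,
    Finset.mul_sum, Geo.gramMatrix]
  refine (Eq.trans ?_ Finset.sum_comm)
  refine Finset.sum_congr rfl fun b _ => Finset.sum_congr rfl fun a _ => ?_
  ring

/-- The pure tensor `x ⊗ y`. -/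
def pureVec (e : ι ≃ Fin n₁ × Fin n₂) (P : GL ι F) (x : Fin n₁ → F) (y : Fin n₂ → F) : ι → F :=
  (P : Matrix ι ι F) *ᵥ ((fun p : Fin n₁ × Fin n₂ => x p.1 * y p.2) ∘ e)

/-- The form on pure tensors. -/
theorem form_pureVec {f₁ : (Fin n₁ → F) → (Fin n₁ → F) → F} {f₂ : (Fin n₂ → F) → (Fin n₂ → F) → F}
    (h₁ : Geo.IsBilinearForm f₁) (h₂ : Geo.IsBilinearForm f₂) {e : ι ≃ Fin n₁ × Fin n₂} {P : GL ι F}
    (h : Geo.IsTensorFormStructure id f f₁ f₂ e P) :
    ∃ c : F, c ≠ 0 ∧ ∀ x y x' y', f (pureVec e P x y) (pureVec e P x' y') = c * (f₁ x x' * f₂ y y') := by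
  obtain ⟨c, hc, h⟩ := h
  refine ⟨c, hc, fun x y x' y' => ?_⟩
  rw [pureVec, pureVec, h, bilinear_eq_gram h₁ x x', bilinear_eq_gram h₂ y y']
  congr 1
  simp only [Geo.formOfGram, Fintype.sum_prod_type, Fintype.sum_mul_sum, Matrix.kroneckerMap_apply, id_eq]
  refine Finset.sum_congr rfl fun a _ => Finset.sum_congr rfl fun b _ =>
    Finset.sum_congr rfl fun a' _ => Finset.sum_congr rfl fun b' _ => ?_
  ring

/-- A member of the tensor product subgroup acts on pure tensors by its factors. -/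
theorem exists_factors {e : ι ≃ Fin n₁ × Fin n₂} {P g : GL ι F}
    (hg : g ∈ Geo.tensorProductSubgroup n₁ n₂ e P) :
    ∃ (a : GL (Fin n₁) F) (b : GL (Fin n₂) F),
      ∀ x y, (g : Matrix ι ι F) *ᵥ pureVec e P x y =
        pureVec e P ((a : Matrix _ _ F) *ᵥ x) ((b : Matrix _ _ F) *ᵥ y) := by
  obtain ⟨_, ⟨s, ⟨a, b, hab⟩, rfl⟩, hs⟩ := hg
  have hg' : g = coordGL e P s := by rw [coordGL_eq]; exact hs.symm
  refine ⟨a, b, fun x y => ?_⟩
  rw [hg', coordGL_val, coordEquiv_apply, pureVec, pureVec, ← Matrix.mulVec_mulVec, inv_mulVec,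
    ← Matrix.mulVec_mulVec]
  congr 1
  funext i
  show ∑ j, (s : Matrix (Fin n₁ × Fin n₂) (Fin n₁ × Fin n₂) F) (e i) (e j) * (x (e j).1 * y (e j).2) = _
  rw [e.sum_comp fun p => (s : Matrix (Fin n₁ × Fin n₂) (Fin n₁ × Fin n₂) F) (e i) p * (x p.1 * y p.2),
    hab, Fintype.sum_prod_type]
  simp only [Matrix.kroneckerMap_apply, Function.comp_apply, Matrix.mulVec, dotProduct, Fintype.sum_mul_sum]
  refine Finset.sum_congr rfl fun p _ => Finset.sum_congr rfl fun r _ => ?_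
  ring

/-- The second factor of an isometry is a similitude of the second form. -/
theorem exists_multiplier {f₁ : (Fin n₁ → F) → (Fin n₁ → F) → F} {f₂ : (Fin n₂ → F) → (Fin n₂ → F) → F}
    [NeZero n₁] [NeZero n₂]
    (h₁ : Geo.IsSymplecticForm f₁) (h₂ : Geo.IsBilinearForm f₂) (h₂n : Geo.IsNondegenerateForm f₂)
    {e : ι ≃ Fin n₁ × Fin n₂} {P : GL ι F}
    (h : Geo.IsTensorFormStructure id f f₁ f₂ e P) {g : GL ι F} (hgf : g ∈ isom f)
    {a : GL (Fin n₁) F} {b : GL (Fin n₂) F}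
    (hab : ∀ x y, (g : Matrix ι ι F) *ᵥ pureVec e P x y =
      pureVec e P ((a : Matrix _ _ F) *ᵥ x) ((b : Matrix _ _ F) *ᵥ y)) :
    ∃ l : F, l ≠ 0 ∧ ∀ y y', f₂ ((b : Matrix _ _ F) *ᵥ y) ((b : Matrix _ _ F) *ᵥ y') = l * f₂ y y' := by
  obtain ⟨c, hc, hf⟩ := form_pureVec h₁.bilinear h₂ h
  have hx0 : (Pi.single 0 1 : Fin n₁ → F) ≠ 0 := by simp
  obtain ⟨x', hx'⟩ := (h₁.nondegenerate _ hx0).2
  set x : Fin n₁ → F := Pi.single 0 1
  have key : ∀ y y', f₁ ((a : Matrix _ _ F) *ᵥ x) ((a : Matrix _ _ F) *ᵥ x') *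
      f₂ ((b : Matrix _ _ F) *ᵥ y) ((b : Matrix _ _ F) *ᵥ y') = f₁ x x' * f₂ y y' := by
    intro y y'
    have h1 : f ((g : Matrix ι ι F) *ᵥ pureVec e P x y) ((g : Matrix ι ι F) *ᵥ pureVec e P x' y') =
        f (pureVec e P x y) (pureVec e P x' y') := hgf _ _
    rw [hab, hab, hf, hf] at h1
    exact mul_left_cancel₀ hc h1
  have ha : f₁ ((a : Matrix _ _ F) *ᵥ x) ((a : Matrix _ _ F) *ᵥ x') ≠ 0 := by
    intro h0
    obtain ⟨y', hy'⟩ := (h₂n (Pi.single 0 1) (by simp)).2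
    have := key (Pi.single 0 1) y'
    rw [h0, zero_mul] at this
    exact mul_ne_zero hx' hy' this.symm
  refine ⟨f₁ x x' / f₁ ((a : Matrix _ _ F) *ᵥ x) ((a : Matrix _ _ F) *ᵥ x'), div_ne_zero hx' ha,
    fun y y' => ?_⟩
  rw [div_mul_eq_mul_div, eq_div_iff ha, mul_comm, key]

/-- Orthogonal non-degenerate subspaces of complementary dimensions form a decomposition. -/
theorem nondegenerateMDecomposition (hf : Geo.IsSymplecticForm f) {t m : ℕ} (ht : 2 ≤ t) (hm : 0 < m)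
    {D : Fin t → Submodule F (ι → F)} (hdim : ∀ i, Module.finrank F (D i) = m)
    (hcard : Fintype.card ι = t * m) (hnd : ∀ i, Geo.IsNondegenerateOn f (D i))
    (horth : ∀ i j, i ≠ j → Geo.AreOrthogonalFor f (D i) (D j)) :
    Geo.IsNondegenerateMDecomposition f m D := by
  classical
  let Φ : (Π i, D i) →ₗ[F] (ι → F) := ∑ i, (D i).subtype ∘ₗ LinearMap.proj i
  have hΦapply : ∀ w : Π i, D i, Φ w = ∑ i, ((w i : D i) : ι → F) := fun w => by
    simp [Φ, LinearMap.sum_apply]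
  have hproj : ∀ (w : Π i, D i) (i : Fin t), ∀ x ∈ D i, f (Φ w) x = f (w i : D i) x := by
    intro w i x hx
    show MaxCl.flin hf.bilinear x (Φ w) = _
    rw [hΦapply, map_sum]
    show ∑ j, f ((w j : D j) : ι → F) x = _
    rw [Finset.sum_eq_single i (fun j _ hj => horth j i hj _ (w j).2 x hx)
      (fun h => absurd (Finset.mem_univ i) h)]
  have hinj : Function.Injective Φ := by
    rw [← LinearMap.ker_eq_bot, Submodule.eq_bot_iff]
    intro w hw
    funext i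
    by_contra hne
    obtain ⟨x, hx, hx'⟩ := (hnd i _ (w i).2 fun h => hne (Subtype.ext h)).2
    exact hx' (by rw [← hproj w i x hx, show Φ w = 0 from hw, zero_left hf])
  have hsurj : Function.Surjective Φ := by
    refine (LinearMap.injective_iff_surjective_of_finrank_eq_finrank ?_).1 hinj
    rw [Module.finrank_pi_fintype, Module.finrank_fintype_fun_eq_card, hcard]
    simp [hdim]
  refine ⟨⟨ht, hm, hdim, ?_, ?_⟩, hnd, horth⟩
  · intro i
    rw [Submodule.disjoint_def]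
    intro v hv hv'
    by_contra hne
    obtain ⟨x, hx, hx'⟩ := (hnd i v hv hne).2
    refine hx' ?_
    have hle : (⨆ (j) (_ : j ≠ i), D j) ≤ LinearMap.ker (MaxCl.flin hf.bilinear x) :=
      iSup₂_le fun j hj u hu => horth j i hj u hu x hx
    exact hle hv'
  · rw [eq_top_iff]
    rintro v -
    obtain ⟨w, rfl⟩ := hsurj v
    rw [hΦapply]
    exact Submodule.sum_mem _ fun i _ => Submodule.mem_iSup_of_mem i (w i).2

end Cfsg.Agent.Aschbacher.SpExplicit
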