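import Cfsg.Agent.Lib.Aschbacher.SpExplicit.NonContain

/-!
The isometry group of a symplectic form in dimension eight lies in no tensor wreath subgroup.
-/

set_option autoImplicit false

namespace Cfsg.Agent.Aschbacher.SpExplicit

open Matrix
open scoped MatrixGroups Kronecker

variable {ι : Type} [Fintype ι] [DecidableEq ι] {F : Type*} [Field F] {m t : ℕ}

theorem permGL_one : (permGL (1 : Equiv.Perm (Fin t)) : GL (Fin t → Fin m) F) = 1 :=
  Units.ext (Matrix.ext fun x y => by simp [permGL, Matrix.one_apply, eq_comm])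

theorem permGL_conj_pure (σ : Equiv.Perm (Fin t)) {p : GL (Fin t → Fin m) F}
    (hp : p ∈ (pureGL (m := m) (t := t) (F := F)).range) :
    permGL σ * p * (permGL σ)⁻¹ ∈ (pureGL (m := m) (t := t) (F := F)).range := by
  classical
  obtain ⟨s, rfl⟩ := hp
  refine ⟨fun i => s (σ.symm i), Units.ext (Matrix.ext fun x w => ?_)⟩
  have h1 : ∀ z : Fin t → Fin m, w = z ∘ σ.symm ↔ z = w ∘ σ := fun z => by
    constructor <;> rintro rfl <;> funext j <;> simp
  simp only [permGL, Units.inv_mk, Units.val_mul, Matrix.mul_apply, Matrix.of_apply, ite_mul, one_mul,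
    zero_mul, Finset.sum_ite_eq', Finset.mem_univ, if_true, mul_ite, mul_one, mul_zero, h1]
  show ∏ i, ((s (σ.symm i) : GL (Fin m) F) : Matrix (Fin m) (Fin m) F) (x i) (w i) =
    ∏ i, ((s i : GL (Fin m) F) : Matrix (Fin m) (Fin m) F) ((x ∘ σ) i) ((w ∘ σ) i)
  exact (Fintype.prod_equiv σ _ _ fun i => by simp).symm

/-- Every element of the wreath subgroup is a pure tensor times a permutation of the factors. -/
theorem exists_pure_perm {g : GL (Fin t → Fin m) F} (hg : g ∈ Geo.tensorWreathStandard m t F) :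
    ∃ p ∈ (pureGL (m := m) (t := t) (F := F)).range, ∃ σ, g = p * permGL σ := by
  classical
  let B := (pureGL (m := m) (t := t) (F := F)).range
  let K : Subgroup (GL (Fin t → Fin m) F) :=
    { carrier := {g | ∃ p ∈ B, ∃ σ, g = p * permGL σ}
      one_mem' := ⟨1, B.one_mem, 1, by rw [one_mul, permGL_one]⟩
      mul_mem' := by
        rintro _ _ ⟨p, hp, σ, rfl⟩ ⟨p', hp', σ', rfl⟩
        refine ⟨p * (permGL σ * p' * (permGL σ)⁻¹), B.mul_mem hp (permGL_conj_pure σ hp'), σ * σ', ?_⟩
        rw [permGL_mul]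
        group
      inv_mem' := by
        rintro _ ⟨p, hp, σ, rfl⟩
        have hinv : (permGL σ : GL (Fin t → Fin m) F)⁻¹ = permGL σ.symm := Units.ext rfl
        refine ⟨permGL σ.symm * p⁻¹ * (permGL σ.symm)⁻¹, permGL_conj_pure _ (B.inv_mem hp), σ.symm, ?_⟩
        rw [_root_.mul_inv_rev, hinv]
        group }
  have hle : Geo.tensorWreathStandard m t F ≤ K := by
    refine (Subgroup.closure_le _).2 ?_
    rintro g (⟨gs, hgs⟩ | ⟨σ, hσ⟩)
    · exact ⟨pureGL gs, ⟨gs, rfl⟩, 1, by rw [permGL_one, mul_one]; exact Units.ext (Matrix.ext hgs)⟩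
    · exact ⟨1, B.one_mem, σ, by rw [one_mul]; exact Units.ext (Matrix.ext hσ)⟩
  exact hle hg

/-- Two elements with the same permutation differ by a pure tensor. -/
theorem pure_of_same_perm {a b p p' : GL (Fin t → Fin m) F} {σ : Equiv.Perm (Fin t)}
    (hp : p ∈ (pureGL (m := m) (t := t) (F := F)).range)
    (hp' : p' ∈ (pureGL (m := m) (t := t) (F := F)).range)
    (ha : a = p * permGL σ) (hb : b = p' * permGL σ) :
    a * b⁻¹ ∈ (pureGL (m := m) (t := t) (F := F)).range := by
  rw [ha, hb, _root_.mul_inv_rev, mul_assoc, mul_inv_cancel_left]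
  exact Subgroup.mul_mem _ hp (Subgroup.inv_mem _ hp')

/-- The pure tensors are normalised by the wreath subgroup. -/
theorem conj_pure {g p : GL (Fin t → Fin m) F} (hg : g ∈ Geo.tensorWreathStandard m t F)
    (hp : p ∈ (pureGL (m := m) (t := t) (F := F)).range) :
    g * p * g⁻¹ ∈ (pureGL (m := m) (t := t) (F := F)).range := by
  obtain ⟨q, hq, σ, rfl⟩ := exists_pure_perm hg
  rw [_root_.mul_inv_rev, show q * permGL σ * p * ((permGL σ)⁻¹ * q⁻¹) =
    q * (permGL σ * p * (permGL σ)⁻¹) * q⁻¹ by group]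
  exact Subgroup.mul_mem _ (Subgroup.mul_mem _ hq (permGL_conj_pure σ hp)) (Subgroup.inv_mem _ hq)

/-- `Fin 3 → Fin 2` as a product. -/
def cubeSplit : (Fin 3 → Fin 2) ≃ Fin 2 × Fin (2 ^ 2) :=
  (Fin.consEquiv fun _ : Fin 3 => Fin 2).symm.trans ((Equiv.refl _).prodCongr finFunctionFinEquiv)

/-- A pure tensor with three factors is a Kronecker product. -/
theorem pure_mem_kronecker (s : Fin 3 → GL (Fin 2) F) :
    Geo.glReindex cubeSplit (pureGL s) ∈ Geo.kroneckerSubgroup 2 (2 ^ 2) F := by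
  refine ⟨s 0, Geo.glReindex finFunctionFinEquiv (pureGL fun i => s i.succ), ?_⟩
  ext ⟨a, b⟩ ⟨a', b'⟩
  show pureMat _ (cubeSplit.symm (a, b)) (cubeSplit.symm (a', b')) =
    ((s 0 : GL (Fin 2) F) : Matrix (Fin 2) (Fin 2) F) a a' *
      pureMat _ (finFunctionFinEquiv.symm b) (finFunctionFinEquiv.symm b')
  rw [pureMat_apply, pureMat_apply, Fin.prod_univ_succ]
  simp [cubeSplit]

/-- Every element of a finite field is a sum of two squares. -/
theorem exists_sq_add_sq [Fintype F] (x : F) : ∃ a b : F, a * a + b * b = x := by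
  classical
  by_cases h2 : ringChar F = 2
  · obtain ⟨b, hb⟩ := FiniteField.isSquare_of_char_two h2 x
    exact ⟨b, 0, by rw [hb]; ring⟩
  obtain ⟨a, b, h⟩ := FiniteField.exists_root_sum_quadratic (R := F) (f := Polynomial.X ^ 2)
    (g := Polynomial.X ^ 2 - Polynomial.C x) (Polynomial.degree_X_pow 2)
    (Polynomial.degree_X_pow_sub_C (by norm_num) x) (FiniteField.odd_card_of_char_ne_two h2)
  exact ⟨a, b, by simp at h; linear_combination h⟩

theorem not_le_tensorWreath [Fintype F] {f : (ι → F) → (ι → F) → F} (hf : Geo.IsSymplecticForm f)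
    (h5 : 5 ≤ Fintype.card F) (e : ι ≃ (Fin 3 → Fin 2)) (P : GL ι F) :
    ¬ isom f ≤ Geo.tensorWreathSubgroup 2 3 e P := by
  classical
  intro hle
  have hco : ∀ g, g ∈ Geo.tensorWreathSubgroup 2 3 e P →
      ∃ s ∈ Geo.tensorWreathStandard 2 3 F, coordGL e P s = g := by
    rintro _ ⟨_, ⟨s, hs, rfl⟩, rfl⟩
    exact ⟨s, hs, coordGL_eq e P s⟩
  let B := ((pureGL (m := 2) (t := 3) (F := F)).range).map (coordGL e P).toMonoidHom
  have hBn : ∀ g ∈ isom f, ∀ p ∈ B, g * p * g⁻¹ ∈ B := by
    rintro g hg _ ⟨p, hp, rfl⟩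
    obtain ⟨s, hs, rfl⟩ := hco g (hle hg)
    exact ⟨s * p * s⁻¹, conj_pure hs hp, by simp⟩
  suffices hall : ∀ u c, MaxCl.stv hf u c ∈ B by
    refine not_le_tensorProductSubgroup hf le_rfl (k := 2 ^ 2) (by norm_num) (e.trans cubeSplit) P
      (le_trans (MaxCl.isoGroup_le_of_full hf B hall) ?_)
    rintro _ ⟨_, ⟨s, rfl⟩, rfl⟩
    refine ⟨_, ⟨_, pure_mem_kronecker s, rfl⟩, ?_⟩
    show P * Geo.glReindex (e.trans cubeSplit).symm (Geo.glReindex cubeSplit (pureGL s)) * P⁻¹ =
      coordGL e P (pureGL s)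
    rw [coordGL_eq]
    congr 2
    ext i j
    simp [Geo.glReindex]
  intro u c
  by_cases hu : u = 0
  · subst hu
    exact MaxCl.full_zero hf B c
  -- some non-trivial transvection along `u` is pure
  obtain ⟨c₀, hc₀, hc₀B⟩ : ∃ c₀ : F, c₀ ≠ 0 ∧ MaxCl.stv hf u c₀ ∈ B := by
    have hsig : ∀ c : F, ∃ p ∈ (pureGL (m := 2) (t := 3) (F := F)).range, ∃ σ,
        coordGL e P (p * permGL σ) = MaxCl.stv hf u c := by
      intro c
      obtain ⟨s, hs, hs'⟩ := hco _ (hle (MaxCl.stv_mem hf u c))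
      obtain ⟨p, hp, σ, rfl⟩ := exists_pure_perm hs
      exact ⟨p, hp, σ, hs'⟩
    choose p hp σ hσ using hsig
    by_cases hinj : Function.Injective σ
    · have hcard := Fintype.card_le_of_injective σ hinj
      rw [Fintype.card_perm, Fintype.card_fin] at hcard
      have h6 : Fintype.card F = 5 := by
        rcases (show Fintype.card F = 5 ∨ Fintype.card F = 6 by
          have : Nat.factorial 3 = 6 := rfl
          omega) with h | h
        · exact h
        · exfalso
          have h' : IsPrimePow 6 := h ▸ FiniteField.isPrimePow_card F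
          exact absurd h' (by decide)
      -- the sixth power is pure
      refine ⟨(6 : ℕ), ?_, ?_⟩
      · intro h0
        have h5' := Nat.cast_card_eq_zero F
        rw [h6] at h5'
        have : (1 : F) = 0 := by
          calc (1 : F) = ((6 : ℕ) : F) - ((5 : ℕ) : F) := by norm_num
            _ = 0 := by rw [h0, h5', sub_zero]
        exact one_ne_zero this
      · have hpow : ∀ n : ℕ, MaxCl.stv hf u (n : F) = MaxCl.stv hf u 1 ^ n := by
          intro n
          induction n with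
          | zero => rw [Nat.cast_zero, MaxCl.stv_zero, pow_zero]
          | succ n ih => rw [Nat.cast_succ, ← MaxCl.stv_add, ih, pow_succ]
        have hpp : ∀ n : ℕ, ∃ q ∈ (pureGL (m := 2) (t := 3) (F := F)).range,
            (p 1 * permGL (σ 1)) ^ n = q * permGL (σ 1 ^ n) := by
          intro n
          induction n with
          | zero => exact ⟨1, one_mem _, by rw [pow_zero, pow_zero, permGL_one, mul_one]⟩
          | succ n ih =>
            obtain ⟨q, hq, hqn⟩ := ih
            refine ⟨q * (permGL (σ 1 ^ n) * p 1 * (permGL (σ 1 ^ n))⁻¹),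
              Subgroup.mul_mem _ hq (permGL_conj_pure _ (hp 1)), ?_⟩
            rw [pow_succ, hqn, pow_succ, permGL_mul]
            group
        obtain ⟨q, hq, hq6⟩ := hpp 6
        have hperm6 : ∀ τ : Equiv.Perm (Fin 3), τ ^ 6 = 1 := fun τ => by
          have h := pow_card_eq_one' (x := τ)
          rwa [Nat.card_eq_fintype_card, Fintype.card_perm, Fintype.card_fin] at h
        rw [hperm6, permGL_one, mul_one] at hq6
        refine ⟨q, hq, ?_⟩
        rw [hpow, ← hσ 1, ← map_pow, hq6]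
        rfl
    · simp only [Function.Injective] at hinj
      push Not at hinj
      obtain ⟨a, b, hab, hne⟩ := hinj
      refine ⟨a - b, sub_ne_zero.2 hne, ?_⟩
      refine ⟨_, pure_of_same_perm (hp a) (hp b) (σ := σ a) rfl rfl, ?_⟩
      show coordGL e P (p a * permGL (σ a) * (p b * permGL (σ a))⁻¹) = _
      have hneg : (MaxCl.stv hf u b)⁻¹ = MaxCl.stv hf u (-b) := by
        refine inv_eq_of_mul_eq_one_right ?_
        rw [MaxCl.stv_add, add_neg_cancel, MaxCl.stv_zero]
      rw [map_mul, map_inv, hσ a, show coordGL e P (p b * permGL (σ a)) = MaxCl.stv hf u b by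
        rw [hab]; exact hσ b, hneg, MaxCl.stv_add, sub_eq_add_neg]
  -- squares times `c₀`
  have hsq : ∀ x : F, MaxCl.stv hf u (x * x * c₀) ∈ B := by
    intro x
    by_cases hx : x = 0
    · rw [hx, mul_zero, zero_mul, MaxCl.stv_zero]
      exact B.one_mem
    obtain ⟨g, hg, hgu⟩ := forall_of_invariant hf
      (P := fun v => ∃ g ∈ isom f, (g : Matrix ι ι F) *ᵥ u = v)
      (fun h hh v ⟨g, hg, hgv⟩ => ⟨h * g, Subgroup.mul_mem _ hh hg, by rw [mulVec_mul, hgv]⟩) hu
      ⟨1, one_mem _, by simp⟩ (smul_ne_zero hx hu)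
    have h1 := hBn g hg _ hc₀B
    rw [MaxCl.conj_stv hf hg, MaxCl.act_apply, hgu, MaxCl.stv_smul, pow_two] at h1
    exact h1
  obtain ⟨a, b, hab⟩ := exists_sq_add_sq (c / c₀)
  rw [show c = a * a * c₀ + b * b * c₀ by rw [← add_mul, hab, div_mul_cancel₀ _ hc₀], ← MaxCl.stv_add]
  exact B.mul_mem (hsq a) (hsq b)

end Cfsg.Agent.Aschbacher.SpExplicit
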