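import Cfsg.Agent.Lib.Aschbacher.SpExplicit.TensorCommon

/-!
Over three elements a tensor decomposition with a three-dimensional orthogonal factor is stabilised inside the
stabiliser of a decomposition into three orthogonal subspaces.
-/

set_option autoImplicit false

namespace Cfsg.Agent.Aschbacher.SpExplicit

open Matrix
open scoped MatrixGroups

variable {ι : Type} [Fintype ι] [DecidableEq ι] {F : Type*} [Field F] [Fintype F]
  {f : (ι → F) → (ι → F) → F} {n₁ : ℕ}

theorem three_cases (h3 : Fintype.card F = 3) (c : F) : c = 0 ∨ c = 1 ∨ c = -1 := by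
  classical
  have h2 : (2 : F) ≠ 0 := two_ne_zero_of_odd (by rw [h3]; decide)
  have hne : (1 : F) ≠ -1 := fun h => h2 (by linear_combination h)
  by_contra hcon
  push Not at hcon
  obtain ⟨h0, h1, h1'⟩ := hcon
  have h := Finset.card_le_card (Finset.subset_univ ({0, 1, -1, c} : Finset F))
  rw [Finset.card_univ, h3, Finset.card_insert_of_notMem (by simp [eq_comm, h0]),
    Finset.card_insert_of_notMem (by simp [hne, Ne.symm h1]),
    Finset.card_insert_of_notMem (by simpa using Ne.symm h1'), Finset.card_singleton] at h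
  omega

theorem sq_eq_one (h3 : Fintype.card F = 3) {c : F} (hc : c ≠ 0) : c * c = 1 := by
  rcases three_cases h3 c with rfl | rfl | rfl
  · exact absurd rfl hc
  · exact mul_one 1
  · ring

/-- An orthogonal basis with equal values. -/
theorem exists_equal_frame (h3 : Fintype.card F = 3) {f₂ : (Fin 3 → F) → (Fin 3 → F) → F}
    (hs : Geo.IsSymmetricForm f₂) :
    ∃ (w : Fin 3 → (Fin 3 → F)) (d : F), d ≠ 0 ∧ (∀ i, f₂ (w i) (w i) = d) ∧
      ∀ i j, i ≠ j → f₂ (w i) (w j) = 0 := by
  classical
  have h2 : (2 : F) ≠ 0 := two_ne_zero_of_odd (by rw [h3]; decide)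
  haveI : Invertible (2 : F) := invertibleOfNonzero h2
  set B := MaxCl.toBil hs.bilinear with hB
  obtain ⟨v, hv⟩ := LinearMap.BilinForm.exists_orthogonal_basis (B := B) ⟨fun x y => hs.symm x y⟩
  have hfr : Module.finrank F (Fin 3 → F) = 3 := Module.finrank_fin_fun F
  let u : Fin 3 → (Fin 3 → F) := fun i => v (finCongr hfr.symm i)
  have horth : ∀ i j, i ≠ j → f₂ (u i) (u j) = 0 := fun i j hij =>
    hv (fun h => hij ((finCongr hfr.symm).injective h))
  have hne : ∀ i, f₂ (u i) (u i) ≠ 0 := by
    intro i h0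
    obtain ⟨x, hx⟩ := (hs.nondegenerate (u i) (v.ne_zero _)).2
    apply hx
    show B (u i) x = 0
    rw [show B (u i) = 0 from v.ext fun k => ?_, LinearMap.zero_apply]
    show f₂ (u i) (v k) = 0
    by_cases hk : k = finCongr hfr.symm i
    · rw [hk]; exact h0
    · exact hv (Ne.symm hk)
  by_cases hall : ∀ i, f₂ (u i) (u i) = f₂ (u 0) (u 0)
  · exact ⟨u, f₂ (u 0) (u 0), hne 0, hall, horth⟩
  -- two equal values `d` and the third `-d`
  obtain ⟨i, j, k, hij, hik, hjk, hd, hk⟩ : ∃ i j k : Fin 3, i ≠ j ∧ i ≠ k ∧ j ≠ k ∧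
      f₂ (u i) (u i) = f₂ (u j) (u j) ∧ f₂ (u k) (u k) = - f₂ (u i) (u i) := by
    push Not at hall
    obtain ⟨l, hl⟩ := hall
    have hopp : ∀ a b : F, a ≠ 0 → b ≠ 0 → a ≠ b → b = -a := by
      intro a b ha hb hab
      rcases three_cases h3 a with rfl | rfl | rfl <;> rcases three_cases h3 b with rfl | rfl | rfl <;>
        simp_all
    have hl0 := hopp _ _ (hne 0) (hne l) (Ne.symm hl)
    obtain ⟨m, hm0, hml⟩ : ∃ m : Fin 3, m ≠ 0 ∧ m ≠ l := by
      clear * - l
      revert l; decide
    have hl0' : l ≠ 0 := fun h => hl (by rw [h])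
    by_cases hm : f₂ (u m) (u m) = f₂ (u 0) (u 0)
    · exact ⟨0, m, l, Ne.symm hm0, Ne.symm hl0', hml, hm.symm, hl0⟩
    · have hm' := hopp _ _ (hne 0) (hne m) (Ne.symm hm)
      exact ⟨l, m, 0, Ne.symm hml, hl0', hm0, by rw [hl0, hm'], by rw [hl0, neg_neg]⟩
  set d := f₂ (u i) (u i) with hd'
  have hd3 : d + d = -d := by
    have h := Nat.cast_card_eq_zero F
    rw [h3] at h
    push_cast at h
    linear_combination d * h
  have hsub : ∀ a b : Fin 3 → F, a - b = a + (-1 : F) • b := fun a b => by
    rw [neg_one_smul, sub_eq_add_neg]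
  refine ⟨![u i + u j, u i - u j, u k], -d, neg_ne_zero.2 (hne i), fun l => ?_, fun l m hlm => ?_⟩
  · fin_cases l
    · simp only [Fin.zero_eta, Matrix.cons_val_zero, hs.bilinear.add_left, hs.bilinear.add_right,
        horth i j hij, horth j i hij.symm, ← hd, ← hd3, add_zero, zero_add]
      rfl
    · show f₂ (u i - u j) (u i - u j) = -d
      rw [hsub]
      simp only [hs.bilinear.add_left, hs.bilinear.add_right, hs.bilinear.smul_left,
        hs.bilinear.smul_right, horth i j hij, horth j i hij.symm, ← hd, ← hd3]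
      rw [hd']; ring
    · exact hk
  · have e01 : f₂ (u i + u j) (u i - u j) = 0 := by
      rw [hsub]
      simp only [hs.bilinear.add_left, hs.bilinear.add_right, hs.bilinear.smul_right, horth i j hij,
        horth j i hij.symm, ← hd]
      ring
    have e02 : f₂ (u i + u j) (u k) = 0 := by
      rw [hs.bilinear.add_left, horth i k hik, horth j k hjk, add_zero]
    have e12 : f₂ (u i - u j) (u k) = 0 := by
      rw [hsub, hs.bilinear.add_left, hs.bilinear.smul_left, horth i k hik, horth j k hjk, mul_zero,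
        add_zero]
    fin_cases l <;> fin_cases m <;>
      first
        | exact absurd rfl hlm
        | exact e01
        | exact e02
        | exact e12
        | exact (hs.symm _ _).trans e01
        | exact (hs.symm _ _).trans e02
        | exact (hs.symm _ _).trans e12

/-- The three orthogonal subspaces. -/
theorem exists_decomposition_of_tensor_three (hf : Geo.IsSymplecticForm f) (h3 : Fintype.card F = 3)
    (hn₁ : 0 < n₁) {f₁ : (Fin n₁ → F) → (Fin n₁ → F) → F} {f₂ : (Fin 3 → F) → (Fin 3 → F) → F}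
    (h₁ : Geo.IsSymplecticForm f₁) (h₂ : Geo.IsSymmetricForm f₂) {e : ι ≃ Fin n₁ × Fin 3} {P : GL ι F}
    (h : Geo.IsTensorFormStructure id f f₁ f₂ e P) :
    ∃ D : Fin 3 → Submodule F (ι → F), Geo.IsNondegenerateMDecomposition f n₁ D ∧
      Geo.tensorProductSubgroup n₁ 3 e P ⊓ isom f ≤ Geo.decompositionStabilizer D := by
  classical
  haveI : NeZero n₁ := ⟨by omega⟩
  obtain ⟨w, d, hd, hwd, hw⟩ := exists_equal_frame h3 h₂
  obtain ⟨c, hc, hform⟩ := form_pureVec h₁.bilinear h₂.bilinear h
  let L : Fin 3 → (Fin n₁ → F) →ₗ[F] (ι → F) := fun i =>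
    { toFun := fun x => pureVec e P x (w i)
      map_add' := fun x y => by
        rw [pureVec, pureVec, pureVec, ← Matrix.mulVec_add]
        congr 1
        funext l
        simp [add_mul]
      map_smul' := fun r x => by
        rw [pureVec, pureVec, RingHom.id_apply, ← Matrix.mulVec_smul]
        congr 1
        funext l
        simp [mul_assoc] }
  have hL : ∀ i x, L i x = pureVec e P x (w i) := fun _ _ => rfl
  have hLinj : ∀ i, Function.Injective (L i) := fun i => by
    rw [← LinearMap.ker_eq_bot, Submodule.eq_bot_iff]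
    intro x hx
    by_contra hx0
    obtain ⟨x', hx'⟩ := (h₁.nondegenerate x hx0).2
    have h1 := hform x (w i) x' (w i)
    rw [← hL i x, show L i x = 0 from hx, zero_left hf, hwd] at h1
    exact mul_ne_zero hc (mul_ne_zero hx' hd) h1.symm
  refine ⟨fun i => LinearMap.range (L i), nondegenerateMDecomposition hf (by norm_num) hn₁
    (fun i => (LinearMap.finrank_range_of_inj (hLinj i)).trans (Module.finrank_fin_fun F))
    (by rw [Fintype.card_congr e]; simp [mul_comm]) ?_ ?_, ?_⟩
  · rintro i _ ⟨x, rfl⟩ hx0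
    obtain ⟨⟨x', hx'⟩, x'', hx''⟩ := h₁.nondegenerate x fun h0 => hx0 (by rw [h0, map_zero])
    exact ⟨⟨_, ⟨x', rfl⟩, by rw [hL, hL, hform, hwd]; exact mul_ne_zero hc (mul_ne_zero hx' hd)⟩,
      _, ⟨x'', rfl⟩, by rw [hL, hL, hform, hwd]; exact mul_ne_zero hc (mul_ne_zero hx'' hd)⟩
  · rintro i j hij _ ⟨x, rfl⟩ _ ⟨y, rfl⟩
    rw [hL, hL, hform, hw i j hij, mul_zero, mul_zero]
  -- the second factor permutes the frame up to sign
  rintro g ⟨hg, hgf⟩
  obtain ⟨a, b, hab⟩ := exists_factors hg
  obtain ⟨l, hl0, hl⟩ := exists_multiplier h₁ h₂.bilinear h₂.nondegenerate h hgf hab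
  have hli : LinearIndependent F w := by
    rw [Fintype.linearIndependent_iff]
    intro s hs i
    have h1 : MaxCl.toBil h₂.bilinear (∑ j, s j • w j) (w i) = 0 := by
      rw [hs, map_zero, LinearMap.zero_apply]
    simp only [map_sum, map_smul, LinearMap.sum_apply, LinearMap.smul_apply, smul_eq_mul,
      MaxCl.toBil_apply] at h1
    rw [Finset.sum_eq_single i (fun j _ hj => by rw [hw j i hj, mul_zero])
      (fun hn => absurd (Finset.mem_univ i) hn), hwd] at h1
    exact (mul_eq_zero.1 h1).resolve_right hd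
  let W : Module.Basis (Fin 3) F (Fin 3 → F) :=
    basisOfLinearIndependentOfCardEqFinrank hli (by simp)
  have hW : ∀ i, W i = w i := fun i => by simp [W]
  have hexp : ∀ y : Fin 3 → F, y = ∑ i, W.repr y i • w i := fun y => by
    conv_lhs => rw [← W.sum_repr y]
    exact Finset.sum_congr rfl fun i _ => by rw [hW]
  have hval : ∀ y : Fin 3 → F, f₂ y y = d * (W.repr y 0 * W.repr y 0 + W.repr y 1 * W.repr y 1 +
      W.repr y 2 * W.repr y 2) := fun y => by
    conv_lhs => rw [hexp y, Fin.sum_univ_three]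
    simp only [h₂.bilinear.add_left, h₂.bilinear.add_right, h₂.bilinear.smul_left, h₂.bilinear.smul_right,
      hwd, hw 0 1 (by decide), hw 1 0 (by decide), hw 0 2 (by decide), hw 2 0 (by decide),
      hw 1 2 (by decide), hw 2 1 (by decide)]
    ring
  -- the multiplier is one
  have hl1 : l = 1 := by
    set G := Geo.gramMatrix f₂
    have hG : ((b : Matrix (Fin 3) (Fin 3) F))ᵀ * G * (b : Matrix (Fin 3) (Fin 3) F) = l • G := by
      ext i j
      have h1 := hl (Pi.single i 1) (Pi.single j 1)
      rw [bilinear_eq_gram h₂.bilinear] at h1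
      simp only [Matrix.mulVec_single_one, Matrix.col_apply] at h1
      rw [Matrix.smul_apply, smul_eq_mul, show G i j = f₂ (Pi.single i 1) (Pi.single j 1) from rfl, ← h1,
        Matrix.mul_apply]
      simp only [Matrix.mul_apply, Finset.sum_mul, Matrix.transpose_apply]
      exact Finset.sum_comm
    have hG0 : G.det ≠ 0 := by
      intro h0
      obtain ⟨y, hy0, hy⟩ := Matrix.exists_mulVec_eq_zero_iff.2 h0
      obtain ⟨x, hx⟩ := (h₂.nondegenerate y hy0).1
      apply hx
      rw [bilinear_eq_gram h₂.bilinear]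
      refine Finset.sum_eq_zero fun i _ => ?_
      have h1 : ∑ j, G i j * y j = 0 := congrFun hy i
      simp only [mul_assoc, ← Finset.mul_sum]
      rw [h1, mul_zero]
    have h1 := congrArg Matrix.det hG
    rw [Matrix.det_mul, Matrix.det_mul, Matrix.det_transpose, Matrix.det_smul, Fintype.card_fin] at h1
    have hb : (b : Matrix (Fin 3) (Fin 3) F).det ≠ 0 := (Matrix.GeneralLinearGroup.det b).ne_zero
    have hb2 := sq_eq_one h3 hb
    have hl2 := sq_eq_one h3 hl0
    have h4 : (l - 1) * G.det = 0 := by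
      linear_combination G.det * hb2 - h1 - G.det * l * hl2
    exact sub_eq_zero.1 ((mul_eq_zero.1 h4).resolve_right hG0)
  -- images of the frame
  have himg : ∀ i, ∃ j, ∃ s : F, s ≠ 0 ∧ (b : Matrix (Fin 3) (Fin 3) F) *ᵥ w i = s • w j := by
    intro i
    set y := (b : Matrix (Fin 3) (Fin 3) F) *ᵥ w i
    have h1 : f₂ y y = d := by rw [hl, hl1, hwd, one_mul]
    rw [hval] at h1
    have h2 := mul_left_cancel₀ hd (h1.trans (mul_one d).symm)
    have hy := hexp y
    rw [Fin.sum_univ_three] at hy
    have hone : (1 : F) ≠ 0 := one_ne_zero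
    have h20 : (2 : F) ≠ 0 := two_ne_zero_of_odd (by rw [h3]; decide)
    by_cases ha : W.repr y 0 = 0
    · by_cases hb : W.repr y 1 = 0
      · refine ⟨2, W.repr y 2, fun h0 => hone ?_, hy.trans (by rw [ha, hb]; simp)⟩
        rw [← h2, ha, hb, h0]; ring
      · refine ⟨1, W.repr y 1, hb, ?_⟩
        have hc' : W.repr y 2 = 0 := by
          by_contra hc'
          rw [ha, sq_eq_one h3 hb, sq_eq_one h3 hc'] at h2
          exact hone (by linear_combination h2)
        exact hy.trans (by rw [ha, hc']; simp)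
    · have hb : W.repr y 1 = 0 := by
        by_contra hb
        by_cases hc' : W.repr y 2 = 0
        · rw [hc', sq_eq_one h3 ha, sq_eq_one h3 hb] at h2
          exact hone (by linear_combination h2)
        · rw [sq_eq_one h3 hc', sq_eq_one h3 ha, sq_eq_one h3 hb] at h2
          exact h20 (by linear_combination h2)
      have hc' : W.repr y 2 = 0 := by
        by_contra hc'
        rw [hb, sq_eq_one h3 hc', sq_eq_one h3 ha] at h2
        exact hone (by linear_combination h2)
      exact ⟨0, W.repr y 0, ha, hy.trans (by rw [hb, hc']; simp)⟩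
  choose π s hs hsw using himg
  have hπ : Function.Injective π := by
    intro i j hij
    by_contra hne
    have h1 := hl (w i) (w j)
    rw [hw i j hne, mul_zero, hsw, hsw, ← hij, h₂.bilinear.smul_left, h₂.bilinear.smul_right, hwd] at h1
    exact mul_ne_zero (hs i) (mul_ne_zero (hs j) hd) h1
  refine ⟨Equiv.ofBijective π (Finite.injective_iff_bijective.1 hπ), fun i => ?_⟩
  show (LinearMap.range (L i)).map (Matrix.toLin' (g : Matrix ι ι F)) = LinearMap.range (L (π i))
  refine Submodule.eq_of_le_of_finrank_eq ?_ ?_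
  · rintro _ ⟨_, ⟨x, rfl⟩, rfl⟩
    refine ⟨s i • ((a : Matrix (Fin n₁) (Fin n₁) F) *ᵥ x), ?_⟩
    rw [Matrix.toLin'_apply, hL, hL, hab, hsw]
    rw [pureVec, pureVec]
    congr 1
    funext l
    simp only [Function.comp_apply, Pi.smul_apply, smul_eq_mul]
    ring
  · show Module.finrank F (translate g (LinearMap.range (L i))) = _
    rw [finrank_translate, LinearMap.finrank_range_of_inj (hLinj i), LinearMap.finrank_range_of_inj (hLinj _)]

end Cfsg.Agent.Aschbacher.SpExplicit
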