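import Cfsg.Agent.Lib.Aschbacher.SpExplicit.NonContain
import Cfsg.Agent.Lib.Aschbacher.ClassTwo
import Cfsg.Agent.Lib.Aschbacher.OddDim
import Cfsg.Agent.Lib.TI.SymplecticFour

/-!
Dimensions in the classes of subgroups of the symplectic groups.
-/

set_option autoImplicit false

namespace Cfsg.Agent.Aschbacher.SpExplicit

open Matrix
open scoped MatrixGroups

variable {ι : Type} [Fintype ι] [DecidableEq ι] {F : Type*} [Field F]
  {f : (ι → F) → (ι → F) → F}

/-- A symplectic form lives in even dimension. -/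
theorem even_card {n : ℕ} {g : (Fin n → F) → (Fin n → F) → F} (hg : Geo.IsSymplecticForm g) : Even n := by
  by_contra h
  exact no_symplectic (by rw [Fintype.card_fin]; exact Nat.not_even_iff_odd.1 h) hg

/-- A non-degenerate subspace has even dimension. -/
theorem even_finrank (hf : Geo.IsSymplecticForm f) {W : Submodule F (ι → F)}
    (hW : Geo.IsNondegenerateOn f W) : Even (Module.finrank F W) := by
  let b := Module.finBasis F W
  let E : (Fin (Module.finrank F W) → F) ≃ₗ[F] W := b.equivFun.symm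
  refine even_card (g := fun u v => f ((E u : W) : ι → F) ((E v : W) : ι → F))
    ⟨⟨fun x y v => ?_, fun c x v => ?_, fun v x y => ?_, fun c v x => ?_⟩, fun v w => hf.skew _ _,
      fun v => hf.alternating _, fun v hv => ?_⟩
  · simp only [map_add, Submodule.coe_add, hf.bilinear.add_left]
  · simp only [map_smul, Submodule.coe_smul, hf.bilinear.smul_left]
  · simp only [map_add, Submodule.coe_add, hf.bilinear.add_right]
  · simp only [map_smul, Submodule.coe_smul, hf.bilinear.smul_right]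
  · obtain ⟨⟨x, hx, hx'⟩, y, hy, hy'⟩ := hW _ (E v).2 fun h0 => hv (by
      have : E v = 0 := Subtype.ext h0
      simpa using this)
    exact ⟨⟨E.symm ⟨x, hx⟩, by simpa using hx'⟩, E.symm ⟨y, hy⟩, by simpa using hy'⟩

theorem even_of_nondegenerate_decomposition (hf : Geo.IsSymplecticForm f) {t m : ℕ}
    {D : Fin t → Submodule F (ι → F)} (hD : Geo.IsNondegenerateMDecomposition f m D) : Even m := by
  have h := hD.decomp.two_le
  rw [← hD.decomp.finrank_eq ⟨0, by omega⟩]
  exact even_finrank hf (hD.nondegenerate _)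

/-- An alternating self-adjoint field structure halves the dimension. -/
theorem two_mul_dvd_of_selfAdjoint (hf : Geo.IsSymplecticForm f) {r : ℕ}
    {K : Subalgebra F (Matrix ι ι F)} (hK : Geo.IsFieldSubalgebra r K) (hsa : Geo.IsSelfAdjointFor f K)
    (halt : ∀ k ∈ K, ∀ v : ι → F, f (k *ᵥ v) v = 0) : 2 * r ∣ Fintype.card ι := by
  classical
  have hinj : ∀ m ∈ K, ∀ u : ι → F, u ≠ 0 → m *ᵥ u = 0 → m = 0 := by
    intro m hm u hu0 hmu
    by_contra h0
    obtain ⟨m', hm', hmm⟩ := hK.inv m hm h0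
    have hmm' : m' * m = 1 := by rw [hK.comm _ hm' _ hm, hmm]
    apply hu0
    rw [← Matrix.one_mulVec u, ← hmm', ← Matrix.mulVec_mulVec, hmu, Matrix.mulVec_zero]
  let S : Set (Submodule F (ι → F)) :=
    {W | (∀ k ∈ K, ∀ w ∈ W, k *ᵥ w ∈ W) ∧ (∀ w ∈ W, w ≠ 0 → ∃ x ∈ W, f w x ≠ 0) ∧
      2 * r ∣ Module.finrank F W}
  obtain ⟨W, ⟨hWK, hWnd, hWd⟩, hWmax⟩ := wellFounded_gt.has_min S
    ⟨⊥, fun k _ u hu => by rw [(Submodule.mem_bot F).1 hu, Matrix.mulVec_zero]; exact Submodule.zero_mem _,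
      fun w hw h0 => absurd ((Submodule.mem_bot F).1 hw) h0, by simp⟩
  by_cases htop : W = ⊤
  · subst htop
    simpa [Module.finrank_fintype_fun_eq_card] using hWd
  exfalso
  -- a vector orthogonal to `W`
  obtain ⟨v, hvW, hv0⟩ : ∃ v : ι → F, (∀ w ∈ W, f w v = 0) ∧ v ≠ 0 := by
    let b := Module.finBasis F W
    let L : (ι → F) →ₗ[F] (Fin (Module.finrank F W) → F) :=
      LinearMap.pi fun i => MaxCl.flin hf.bilinear ((b i : W) : ι → F)
    have hker : LinearMap.ker L ≠ ⊥ := by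
      intro h0
      have h1 := LinearMap.finrank_le_finrank_of_injective (LinearMap.ker_eq_bot.1 h0)
      rw [Module.finrank_fintype_fun_eq_card, Module.finrank_fintype_fun_eq_card, Fintype.card_fin] at h1
      have h2 := Submodule.finrank_lt_finrank_of_lt (lt_top_iff_ne_top.2 htop)
      rw [finrank_top, Module.finrank_fintype_fun_eq_card] at h2
      omega
    obtain ⟨v, hv, hv0⟩ := (Submodule.ne_bot_iff _).1 hker
    refine ⟨v, fun w hw => ?_, hv0⟩
    let φ : W →ₗ[F] F := (MaxCl.flin hf.bilinear v).comp W.subtype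
    show φ ⟨w, hw⟩ = 0
    rw [show φ = 0 from b.ext fun i => ?_, LinearMap.zero_apply]
    show f ((b i : W) : ι → F) v = 0
    have h1 : f v ((b i : W) : ι → F) = 0 := congrFun (show L v = 0 from hv) i
    rw [hf.skew, h1, neg_zero]
  obtain ⟨z, hz⟩ := (hf.nondegenerate v hv0).1
  -- project `z` to the orthogonal complement
  obtain ⟨x, hxW, hfx⟩ : ∃ x : ι → F, (∀ w ∈ W, f w x = 0) ∧ f x v ≠ 0 := by
    let Φ : W →ₗ[F] (W →ₗ[F] F) :=
      ((MaxCl.toBil hf.bilinear).flip).compl₁₂ W.subtype W.subtype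
    have hΦ : Function.Injective Φ := by
      rw [← LinearMap.ker_eq_bot, Submodule.eq_bot_iff]
      rintro ⟨w, hw⟩ hw'
      by_contra hne
      obtain ⟨y, hy, hy'⟩ := hWnd w hw (fun h => hne (Subtype.ext h))
      have h1 : f y w = 0 := LinearMap.congr_fun (show Φ ⟨w, hw⟩ = 0 from hw') ⟨y, hy⟩
      exact hy' (by rw [hf.skew, h1, neg_zero])
    obtain ⟨w₀, hw₀⟩ := (LinearMap.injective_iff_surjective_of_finrank_eq_finrank
      Subspace.dual_finrank_eq.symm).1 hΦ ((MaxCl.flin hf.bilinear z).comp W.subtype)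
    refine ⟨z - w₀, fun w hw => ?_, ?_⟩
    · have h1 : f w w₀ = f w z := LinearMap.congr_fun hw₀ ⟨w, hw⟩
      rw [MaxCl.f_sub_right hf, h1, sub_self]
    · rwa [MaxCl.f_sub_left hf, hvW _ w₀.2, sub_zero]
  -- enlarge `W` by `K v + K x`
  let Lv : K →ₗ[F] (ι → F) :=
    { toFun := fun k => (k : Matrix ι ι F) *ᵥ v
      map_add' := fun a b => by simp [Matrix.add_mulVec]
      map_smul' := fun c a => by simp [Matrix.smul_mulVec] }
  let Lx : K →ₗ[F] (ι → F) :=
    { toFun := fun k => (k : Matrix ι ι F) *ᵥ x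
      map_add' := fun a b => by simp [Matrix.add_mulVec]
      map_smul' := fun c a => by simp [Matrix.smul_mulVec] }
  have horth : ∀ k ∈ K, ∀ w ∈ W, f w (k *ᵥ v) = 0 ∧ f w (k *ᵥ x) = 0 := fun k hk w hw => by
    rw [← hsa k hk, ← hsa k hk]
    exact ⟨hvW _ (hWK k hk w hw), hxW _ (hWK k hk w hw)⟩
  have hself : ∀ y : ι → F, ∀ a ∈ K, ∀ b ∈ K, f (a *ᵥ y) (b *ᵥ y) = 0 := fun y a ha b hb => by
    rw [← hsa b hb, Matrix.mulVec_mulVec]
    exact halt _ (K.mul_mem hb ha) y
  -- the pairing between the two lines is non-degenerate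
  have hpair : ∀ (y y' : ι → F), f y' y ≠ 0 → ∀ a ∈ K, a ≠ 0 → ∃ b ∈ K, f (a *ᵥ y) (b *ᵥ y') ≠ 0 := by
    intro y y' hy a ha ha0
    obtain ⟨b, hb, hab⟩ := hK.inv a ha ha0
    refine ⟨b, hb, ?_⟩
    rw [← hsa b hb, Matrix.mulVec_mulVec, hK.comm b hb a ha, hab, Matrix.one_mulVec, hf.skew]
    exact neg_ne_zero.2 hy
  set W' := W ⊔ (LinearMap.range Lv ⊔ LinearMap.range Lx) with hW'
  have hmem' : ∀ u ∈ W', ∃ w ∈ W, ∃ a ∈ K, ∃ b ∈ K, w + (a *ᵥ v + b *ᵥ x) = u := by
    intro u hu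
    obtain ⟨w, hw, p, hp, rfl⟩ := Submodule.mem_sup.1 hu
    obtain ⟨_, ⟨a, rfl⟩, _, ⟨b, rfl⟩, rfl⟩ := Submodule.mem_sup.1 hp
    exact ⟨w, hw, a, a.2, b, b.2, rfl⟩
  have hmk : ∀ w ∈ W, ∀ a ∈ K, ∀ b ∈ K, w + (a *ᵥ v + b *ᵥ x) ∈ W' := fun w hw a ha b hb =>
    Submodule.add_mem_sup hw (Submodule.add_mem_sup ⟨⟨a, ha⟩, rfl⟩ ⟨⟨b, hb⟩, rfl⟩)
  have hzero : (0 : Matrix ι ι F) ∈ K := K.zero_mem
  -- separation
  have hsep : ∀ w ∈ W, ∀ a ∈ K, ∀ b ∈ K, (w ≠ 0 ∨ a ≠ 0 ∨ b ≠ 0) →
      ∃ u ∈ W', f (w + (a *ᵥ v + b *ᵥ x)) u ≠ 0 := by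
    intro w hw a ha b hb hne
    by_cases hw0 : w = 0
    · subst hw0
      by_cases ha0 : a = 0
      · subst ha0
        obtain ⟨d, hd, hd'⟩ := hpair x v (by rw [hf.skew]; exact neg_ne_zero.2 hfx) b hb
          (by simpa using hne)
        refine ⟨_, hmk 0 W.zero_mem d hd 0 hzero, ?_⟩
        simpa using hd'
      · obtain ⟨d, hd, hd'⟩ := hpair v x hfx a ha ha0
        refine ⟨_, hmk 0 W.zero_mem 0 hzero d hd, ?_⟩
        simp only [Matrix.zero_mulVec, zero_add, hf.bilinear.add_left, hself x b hb d hd, add_zero]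
        exact hd'
    · obtain ⟨y, hy, hy'⟩ := hWnd w hw hw0
      refine ⟨_, hmk y hy 0 hzero 0 hzero, ?_⟩
      have h1 := (horth a ha y hy).1
      have h2 := (horth b hb y hy).2
      simp only [Matrix.zero_mulVec, add_zero, hf.bilinear.add_left]
      rw [hf.skew (a *ᵥ v), hf.skew (b *ᵥ x), h1, h2]
      simpa using hy'
  have hdisj : ∀ w ∈ W, ∀ a ∈ K, ∀ b ∈ K, w + (a *ᵥ v + b *ᵥ x) = 0 → w = 0 ∧ a = 0 ∧ b = 0 := by
    intro w hw a ha b hb h0
    by_contra hne
    obtain ⟨u, -, hu⟩ := hsep w hw a ha b hb (by tauto)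
    exact hu (by rw [h0, zero_left hf])
  let Φ : (W × (K × K)) →ₗ[F] (ι → F) := W.subtype.coprod (Lv.coprod Lx)
  have hΦ : Function.Injective Φ := by
    rw [← LinearMap.ker_eq_bot, Submodule.eq_bot_iff]
    rintro ⟨⟨w, hw⟩, ⟨a, ha⟩, ⟨b, hb⟩⟩ h0
    obtain ⟨h1, h2, h3⟩ := hdisj w hw a ha b hb h0
    subst h1; subst h2; subst h3; rfl
  have hrange : LinearMap.range Φ = W' := by
    rw [LinearMap.range_coprod, LinearMap.range_coprod, Submodule.range_subtype]
  have hdim : Module.finrank F W' = Module.finrank F W + 2 * r := by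
    rw [← hrange, LinearMap.finrank_range_of_inj hΦ, Module.finrank_prod, Module.finrank_prod,
      show Module.finrank F K = r from hK.finrank_eq]
    ring
  refine hWmax W' ⟨fun k hk u hu => ?_, fun u hu hu0 => ?_, by rw [hdim]; exact Nat.dvd_add hWd dvd_rfl⟩
    (lt_of_le_of_ne le_sup_left fun h => ?_)
  · obtain ⟨w, hw, a, ha, b, hb, rfl⟩ := hmem' u hu
    rw [Matrix.mulVec_add, Matrix.mulVec_add, Matrix.mulVec_mulVec, Matrix.mulVec_mulVec]
    exact hmk _ (hWK k hk w hw) _ (K.mul_mem hk ha) _ (K.mul_mem hk hb)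
  · obtain ⟨w, hw, a, ha, b, hb, rfl⟩ := hmem' u hu
    refine hsep w hw a ha b hb ?_
    by_contra hne
    push Not at hne
    obtain ⟨rfl, rfl, rfl⟩ := hne
    exact hu0 (by simp)
  · have h1 := congrArg (fun U : Submodule F (ι → F) => Module.finrank F U) h
    have h2 : r ≠ 0 := by
      intro h0
      have h3 := hK.finrank_eq
      rw [h0] at h3
      have : Subsingleton K := Module.finrank_zero_iff.1 h3
      exact absurd (Subsingleton.elim (1 : K) 0 : (1 : K) = 0) (by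
        intro h4
        exact hv0 (by rw [← Matrix.one_mulVec v, show (1 : Matrix ι ι F) = 0 from congrArg Subtype.val h4,
          Matrix.zero_mulVec]))
    simp only [hdim] at h1
    omega

/-- The scalars in an absolutely irreducible group form its centre. -/
theorem card_center_eq {R : Subgroup (GL ι F)} (hR : AbsIrr R) :
    Nat.card (Subgroup.center R) = Nat.card ((Geo.scalars ι F).subgroupOf R) := by
  congr 1
  have h : Subgroup.center R = (Geo.scalars ι F).subgroupOf R := by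
    ext ⟨x, hx⟩
    rw [Subgroup.mem_center_iff, Subgroup.mem_subgroupOf]
    exact ⟨fun h => hR.scalar_of_comm fun y hy => (congrArg Subtype.val (h ⟨y, hy⟩)).symm,
      fun h y => Subtype.ext (scalar_comm h _).symm⟩
  rw [h]

/-- Commutators in a group of symplectic type with centre of order two are central; its order. -/
theorem symplecticType_spec [Fintype F] [Nonempty ι] {R : Subgroup (GL ι F)}
    (hRs : Geo.IsSymplecticTypeGroup 2 R) (hRi : AbsIrr R) (hRZ : Nat.card (Subgroup.center R) = 2) :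
    (∀ x ∈ R, ∀ y ∈ R, x * y * x⁻¹ * y⁻¹ ∈ Geo.scalars ι F) ∧
      Nat.card R = 2 * Fintype.card ι ^ 2 := by
  classical
  have h4 : ∀ x : R, x ^ 4 = 1 := fun x => by
    have h := Monoid.pow_exponent_eq_one x
    rwa [hRs.exponent_eq] at h
  have hP : IsOfSymplecticType R := ⟨hRs.pGroup, hRs.cyclic_of_characteristic⟩
  obtain ⟨z, hz⟩ := exists_prime_orderOf_dvd_card' (G := Subgroup.center R) 2 (hRZ ▸ dvd_rfl)
  have hz2 : (z : R) * z = 1 := by
    have h := pow_orderOf_eq_one z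
    rw [hz, pow_two] at h
    exact congrArg Subtype.val h
  have hz1 : (z : R) ≠ 1 := fun h => by
    rw [show z = 1 from Subtype.ext h, orderOf_one] at hz
    omega
  have hzs : ((z : R) : GL ι F) ∈ Geo.scalars ι F := hRi.scalar_of_comm fun y hy => by
    have h := Subgroup.mem_center_iff.1 z.2 ⟨y, hy⟩
    exact (congrArg Subtype.val h).symm
  have hcomm := (TI.commutator_and_square_mem hP h4 z.2 hz2 hz1).1
  have hcl : ∀ x ∈ R, ∀ y ∈ R, x * y * x⁻¹ * y⁻¹ ∈ Geo.scalars ι F := by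
    intro x hx y hy
    rcases hcomm ⟨x, hx⟩ ⟨y, hy⟩ with h | h
    · rw [show x * y * x⁻¹ * y⁻¹ = 1 from congrArg Subtype.val h]; exact one_mem _
    · rw [show x * y * x⁻¹ * y⁻¹ = ((z : R) : GL ι F) from congrArg Subtype.val h]; exact hzs
  refine ⟨hcl, ?_⟩
  have ht : ∀ x ∈ R, x ∉ Geo.scalars ι F → (x : Matrix ι ι F).trace = 0 := by
    intro x hx hxs
    by_contra h0
    refine hxs (hRi.scalar_of_comm fun y hy => ?_)
    obtain ⟨c, hc⟩ := (Geo.mem_scalars_iff _).1 (hcl y hy x hx)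
    have h2 : ((y * x * y⁻¹ : GL ι F) : Matrix ι ι F).trace = (x : Matrix ι ι F).trace := by
      rw [Units.val_mul, Units.val_mul, Matrix.trace_units_conj]
    rw [show y * x * y⁻¹ = y * x * y⁻¹ * x⁻¹ * x by group, Units.val_mul, hc, smul_mul_assoc, one_mul,
      Matrix.trace_smul, smul_eq_mul, mul_left_eq_self₀] at h2
    have h3 : y * x * y⁻¹ * x⁻¹ = 1 := Units.ext (by rw [hc, h2.resolve_right h0]; simp)
    rw [mul_inv_eq_one, mul_inv_eq_iff_eq_mul] at h3
    exact h3.symm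
  rw [(card_of_traceless hRi ht).2, ← card_center_eq hRi, hRZ, mul_comm]

/-- The order of a symplectic type group determines the dimension. -/
theorem symplecticType_dim [Fintype F] [Nonempty ι] {R : Subgroup (GL ι F)}
    (hRs : Geo.IsSymplecticTypeGroup 2 R) (hRi : AbsIrr R) (hRZ : Nat.card (Subgroup.center R) = 2)
    {k : ℕ} (hk : Nat.card R = 2 ^ (1 + 2 * k)) : Fintype.card ι = 2 ^ k := by
  have h := (symplecticType_spec hRs hRi hRZ).2
  rw [hk, pow_add, pow_one, mul_comm 2 k, pow_mul] at h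
  exact (Nat.pow_left_injective two_ne_zero (Nat.eq_of_mul_eq_mul_left two_pos h)).symm

/-- A symplectic type group of positive width is not scalar. -/
theorem symplecticType_not_scalar [Fintype F] [Nonempty ι] (hι : 2 ≤ Fintype.card ι) {R : Subgroup (GL ι F)}
    (hRi : AbsIrr R) : ¬ R ≤ Geo.scalars ι F :=
  fun h => not_irr_of_le_scalars hι h hRi.1

end Cfsg.Agent.Aschbacher.SpExplicit
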