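import Cfsg.Agent.Lib.Aschbacher.SpExplicit.Dims

/-!
Over two elements a decomposition into non-degenerate planes is stabilised inside an orthogonal group.
-/

set_option autoImplicit false

namespace Cfsg.Agent.Aschbacher.SpExplicit

open Matrix
open scoped MatrixGroups

variable {ι : Type} [Fintype ι] [DecidableEq ι] {F : Type*} [Field F] [Fintype F]
  {f : (ι → F) → (ι → F) → F}

theorem eq_zero_or_one (h2 : Fintype.card F = 2) (c : F) : c = 0 ∨ c = 1 := by
  classical
  by_contra h
  push Not at h
  have h1 := Finset.card_le_card (Finset.subset_univ ({0, 1, c} : Finset F))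
  rw [Finset.card_univ, h2, Finset.card_insert_of_notMem (by simp [eq_comm, h.1]),
    Finset.card_insert_of_notMem (by simp [eq_comm, h.2]), Finset.card_singleton] at h1
  omega

/-- The quadratic form of a decomposition into non-degenerate planes over two elements. -/
theorem exists_quad_of_planes (hf : Geo.IsSymplecticForm f) (h2 : Fintype.card F = 2) {t : ℕ}
    {D : Fin t → Submodule F (ι → F)} (hD : Geo.IsNondegenerateMDecomposition f 2 D) :
    ∃ Q : (ι → F) → F, Geo.IsNondegenerateQuadraticForm Q ∧ (∀ u v, QuadraticMap.polar Q u v = f u v) ∧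
      Geo.decompositionStabilizer D ⊓ isom f ≤ Geo.quadSimilarityGroup Q := by
  classical
  have h20 : (2 : F) = 0 := by
    have h := Nat.cast_card_eq_zero F
    rw [h2] at h
    exact_mod_cast h
  -- components
  let Φ : (Π i, D i) →ₗ[F] (ι → F) := ∑ i, (D i).subtype ∘ₗ LinearMap.proj i
  have hΦapply : ∀ w : Π i, D i, Φ w = ∑ i, ((w i : D i) : ι → F) := fun w => by
    simp [Φ, LinearMap.sum_apply]
  have hsurj : Function.Surjective Φ := by
    rw [← LinearMap.range_eq_top, eq_top_iff, ← hD.decomp.iSup_eq_top]
    refine iSup_le fun i v hv => ⟨Pi.single i ⟨v, hv⟩, ?_⟩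
    rw [hΦapply, Finset.sum_eq_single i (fun j _ hj => by rw [Pi.single_eq_of_ne hj]; rfl)
      (fun h => absurd (Finset.mem_univ i) h), Pi.single_eq_same]
  have hfin : Module.finrank F (Π i, D i) = Module.finrank F (ι → F) := by
    rw [Module.finrank_pi_fintype, Module.finrank_fintype_fun_eq_card,
      card_eq_of_isMDecomposition hD.decomp]
    simp [hD.decomp.finrank_eq]
  have hinj : Function.Injective Φ :=
    (LinearMap.injective_iff_surjective_of_finrank_eq_finrank hfin).2 hsurj
  let E : (Π i, D i) ≃ₗ[F] (ι → F) := LinearEquiv.ofBijective Φ ⟨hinj, hsurj⟩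
  let comp : (ι → F) → Fin t → (ι → F) := fun v i => ((E.symm v i : D i) : ι → F)
  have hcomp : ∀ v, ∑ i, comp v i = v := fun v => by
    rw [← hΦapply (E.symm v)]
    exact E.apply_symm_apply v
  have hcmem : ∀ v i, comp v i ∈ D i := fun v i => (E.symm v i).2
  have hcadd : ∀ u v i, comp (u + v) i = comp u i + comp v i := fun u v i => by
    simp [comp]
  have huniq : ∀ (v : ι → F) (w : Fin t → (ι → F)), (∀ i, w i ∈ D i) → ∑ i, w i = v → ∀ i, comp v i = w i := by
    intro v w hw hsum i
    have h1 : E.symm v = fun i => ⟨w i, hw i⟩ := by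
      rw [LinearEquiv.symm_apply_eq]
      show v = Φ _
      rw [hΦapply, ← hsum]
    simp [comp, h1]
  have hc0 : ∀ i, comp 0 i = 0 := fun i => by simp [comp]
  -- the form decomposes
  have hfsum : ∀ u v, f u v = ∑ i, f (comp u i) (comp v i) := by
    intro u v
    conv_lhs => rw [← hcomp u, ← hcomp v]
    show MaxCl.toBil hf.bilinear (∑ i, comp u i) (∑ i, comp v i) = _
    simp only [map_sum, LinearMap.sum_apply]
    refine Finset.sum_congr rfl fun i _ => ?_
    show ∑ d, f (comp u d) (comp v i) = _
    rw [Finset.sum_eq_single i (fun j _ hj => hD.orthogonal j i hj _ (hcmem u j) _ (hcmem v i))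
      (fun h => absurd (Finset.mem_univ i) h)]
  let q : (ι → F) → F := fun v => if v = 0 then 0 else 1
  let Q : (ι → F) → F := fun v => ∑ i, q (comp v i)
  have hq : ∀ i, ∀ u ∈ D i, ∀ v ∈ D i, q (u + v) - q u - q v = f u v := by
    intro i u hu v hv
    by_cases hu0 : u = 0
    · subst hu0
      simp [q, zero_left hf]
    by_cases hv0 : v = 0
    · subst hv0
      simp [q, zero_right hf]
    by_cases huv : u = v
    · subst huv
      have h0 : u + u = 0 := by rw [← two_smul F u, h20, zero_smul]
      rw [hf.alternating, h0]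
      simp only [q, if_pos rfl, if_neg hu0]
      linear_combination -h20
    have hne : u + v ≠ 0 := fun h => huv (by
      rw [eq_neg_of_add_eq_zero_left h]
      funext k
      show - v k = v k
      linear_combination -(v k) * h20)
    simp only [q, if_neg hu0, if_neg hv0, if_neg hne]
    -- two distinct non-zero vectors of the plane are not orthogonal
    rcases eq_zero_or_one h2 (f u v) with h | h
    · exfalso
      obtain ⟨x, hx, hfx⟩ := (hD.nondegenerate i u hu hu0).2
      have hspan : Submodule.span F {u, v} = D i := by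
        refine Submodule.eq_of_le_of_finrank_le (Submodule.span_le.2 (by
          rintro z (rfl | rfl) <;> assumption)) ?_
        rw [hD.decomp.finrank_eq i]
        have hli : LinearIndependent F ![u, v] := LinearIndependent.pair_iff.2 fun a b hab => by
          rcases eq_zero_or_one h2 a with rfl | rfl <;> rcases eq_zero_or_one h2 b with rfl | rfl
          · exact ⟨rfl, rfl⟩
          · exact absurd (by simpa using hab) hv0
          · exact absurd (by simpa using hab) hu0
          · exact absurd (by simpa using hab) hne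
        have h3 := finrank_span_eq_card hli
        rw [Matrix.range_cons_cons_empty, Fintype.card_fin] at h3
        omega
      obtain ⟨a, b, rfl⟩ := Submodule.mem_span_pair.1 (hspan.ge hx)
      exact hfx (by rw [hf.bilinear.add_right, hf.bilinear.smul_right, hf.bilinear.smul_right,
        hf.alternating, h, mul_zero, mul_zero, add_zero])
    · rw [h]; linear_combination -h20
  have hpol : ∀ u v, QuadraticMap.polar Q u v = f u v := by
    intro u v
    simp only [QuadraticMap.polar, Q, hcadd, ← Finset.sum_sub_distrib]
    rw [hfsum]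
    exact Finset.sum_congr rfl fun i _ => hq i _ (hcmem u i) _ (hcmem v i)
  refine ⟨Q, ⟨fun c v => ?_, ?_, ?_⟩, hpol, ?_⟩
  · rcases eq_zero_or_one h2 c with rfl | rfl
    · simp [Q, q, hc0]
    · simp
  · exact ⟨fun x y v => by simp only [hpol, hf.bilinear.add_left],
      fun c x v => by simp only [hpol, hf.bilinear.smul_left],
      fun v x y => by simp only [hpol, hf.bilinear.add_right],
      fun c v x => by simp only [hpol, hf.bilinear.smul_right]⟩
  · intro v hv
    simp only [hpol]
    exact hf.nondegenerate v hv
  · rintro g ⟨⟨π, hπ⟩, -⟩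
    refine ⟨1, fun v => ?_⟩
    rw [Units.val_one, one_mul]
    have hmem : ∀ i, (g : Matrix ι ι F) *ᵥ comp v i ∈ D (π i) := fun i => by
      rw [← hπ i]; exact ⟨_, hcmem v i, Matrix.toLin'_apply _ _⟩
    have h1 : ∀ i, comp ((g : Matrix ι ι F) *ᵥ v) i = (g : Matrix ι ι F) *ᵥ comp v (π.symm i) :=
      huniq _ _ (fun i => by simpa using hmem (π.symm i)) (by
        rw [Equiv.sum_comp π.symm fun i => (g : Matrix ι ι F) *ᵥ comp v i, ← Matrix.mulVec_sum, hcomp])
    simp only [Q, h1]
    rw [Equiv.sum_comp π.symm fun i => q ((g : Matrix ι ι F) *ᵥ comp v i)]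
    refine Finset.sum_congr rfl fun i _ => ?_
    simp only [q, mulVec_eq_zero_iff]

end Cfsg.Agent.Aschbacher.SpExplicit
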