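import Cfsg.Agent.Lib.Aschbacher.SpExplicit.WreathNonContain
import Cfsg.Agent.Lib.Aschbacher.SpExplicit.TensorCommon

/-!
Over the field with three elements the stabiliser of a tensor cube `Sp₂ ⊗ Sp₂ ⊗ Sp₂` normalises a group
`2^(1+6)` of minus type, the tensor cube of the quaternion group in `SL₂(3)`.
-/

set_option autoImplicit false

namespace Cfsg.Agent.Aschbacher.SpExplicit

open Matrix
open scoped MatrixGroups

variable {ι : Type} [Fintype ι] [DecidableEq ι] {F : Type*} [Field F]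
  {f : (ι → F) → (ι → F) → F}

/-- The quaternion group in `GL₂(3)`: trace zero or scalar, with determinant one. -/
def IsQuat (A : Matrix (Fin 2) (Fin 2) F) : Prop :=
  A.det = 1 ∧ (A.trace = 0 ∨ ∃ c : F, A = c • 1)

theorem exists_quat_coords (φ : ZMod 3 ≃+* F) {A : Matrix (Fin 2) (Fin 2) F} (hd : A.det = 1)
    (ht : A.trace = 0) :
    ∃ x y z : ZMod 3, -(x * x) - y * z = 1 ∧ A = φ.mapMatrix !![x, y; z, -x] := by
  refine ⟨φ.symm (A 0 0), φ.symm (A 0 1), φ.symm (A 1 0), ?_, ?_⟩
  · rw [Matrix.det_fin_two] at hd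
    rw [Matrix.trace_fin_two] at ht
    apply φ.injective
    simp only [map_sub, map_neg, map_mul, RingEquiv.apply_symm_apply, map_one]
    linear_combination hd - A 0 0 * ht
  · rw [Matrix.trace_fin_two] at ht
    ext i j
    fin_cases i <;> fin_cases j <;> simp
    linear_combination ht

theorem quat_mul_table : ∀ x y z x' y' z' : ZMod 3, -(x * x) - y * z = 1 → -(x' * x') - y' * z' = 1 →
    (x * x' + y * z' + (z * y' + -x * -x') = 0) ∨
      (x * y' + y * -x' = 0 ∧ z * x' + -x * z' = 0 ∧ x * x' + y * z' = z * y' + -x * -x') := by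
  decide

theorem IsQuat.mul (φ : ZMod 3 ≃+* F) {A B : Matrix (Fin 2) (Fin 2) F} (hA : IsQuat A) (hB : IsQuat B) :
    IsQuat (A * B) := by
  refine ⟨by rw [Matrix.det_mul, hA.1, hB.1, one_mul], ?_⟩
  rcases hA.2 with htA | ⟨c, hc⟩
  · rcases hB.2 with htB | ⟨d, hd⟩
    · obtain ⟨x, y, z, h, rfl⟩ := exists_quat_coords φ hA.1 htA
      obtain ⟨x', y', z', h', rfl⟩ := exists_quat_coords φ hB.1 htB
      rw [← map_mul, Matrix.mul_fin_two]
      rcases quat_mul_table x y z x' y' z' h h' with h1 | ⟨h1, h2, h3⟩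
      · left
        rw [Matrix.trace_fin_two]
        simpa using congrArg φ h1
      · right
        refine ⟨φ (x * x' + y * z'), ?_⟩
        rw [h1, h2, ← h3]
        ext i j
        fin_cases i <;> fin_cases j <;> simp
    · left; rw [hd, mul_smul_comm, mul_one, Matrix.trace_smul, htA, smul_zero]
  · rcases hB.2 with htB | ⟨d, hd⟩
    · left; rw [hc, smul_mul_assoc, one_mul, Matrix.trace_smul, htB, smul_zero]
    · exact Or.inr ⟨c * d, by rw [hc, hd, smul_mul_assoc, one_mul, smul_smul]⟩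

theorem IsQuat.one : IsQuat (1 : Matrix (Fin 2) (Fin 2) F) := ⟨Matrix.det_one, Or.inr ⟨1, (one_smul F _).symm⟩⟩

theorem IsQuat.adjugate {A : Matrix (Fin 2) (Fin 2) F} (hA : IsQuat A) : IsQuat A.adjugate := by
  refine ⟨by rw [Matrix.det_adjugate, hA.1, one_pow], ?_⟩
  rcases hA.2 with ht | ⟨c, rfl⟩
  · left
    rw [Matrix.adjugate_fin_two, Matrix.trace_fin_two] at *
    simpa [add_comm] using ht
  · exact Or.inr ⟨c, by rw [Matrix.adjugate_smul, Matrix.adjugate_one]; simp⟩

/-- The quaternion subgroup of `GL₂(3)`. -/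
def quatGroup (φ : ZMod 3 ≃+* F) : Subgroup (GL (Fin 2) F) where
  carrier := {g | IsQuat (g : Matrix (Fin 2) (Fin 2) F)}
  one_mem' := IsQuat.one
  mul_mem' ha hb := ha.mul φ hb
  inv_mem' {a} ha := by
    show IsQuat ((a⁻¹ : GL (Fin 2) F) : Matrix (Fin 2) (Fin 2) F)
    rw [Matrix.coe_units_inv, Matrix.inv_def, ha.1, Ring.inverse_one, one_smul]
    exact ha.adjugate

theorem mem_quatGroup {φ : ZMod 3 ≃+* F} {g : GL (Fin 2) F} :
    g ∈ quatGroup φ ↔ IsQuat (g : Matrix (Fin 2) (Fin 2) F) := Iff.rfl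

theorem quatGroup_conj {φ : ZMod 3 ≃+* F} (s : GL (Fin 2) F) {g : GL (Fin 2) F} (hg : g ∈ quatGroup φ) :
    s * g * s⁻¹ ∈ quatGroup φ := by
  refine ⟨?_, ?_⟩
  · rw [Units.val_mul, Units.val_mul, Matrix.det_units_conj]; exact hg.1
  · rcases hg.2 with ht | ⟨c, hc⟩
    · left; rw [Units.val_mul, Units.val_mul, Matrix.trace_units_conj]; exact ht
    · refine Or.inr ⟨c, ?_⟩
      rw [Units.val_mul, Units.val_mul, hc, mul_smul_comm, mul_one, smul_mul_assoc, Units.mul_inv]

theorem quat_move_table : ∀ x y z : ZMod 3, -(x * x) - y * z = 1 →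
    (!![1, 1; 0, 1] * !![x, y; z, -x] * !![1, -1; 0, 1] * !![-x, -y; -z, x]) *
        (!![1, 1; 0, 1] * (!![1, 1; 0, 1] * !![x, y; z, -x] * !![1, -1; 0, 1] * !![-x, -y; -z, x]) *
          !![1, -1; 0, 1]) ≠
      (!![1, 1; 0, 1] * (!![1, 1; 0, 1] * !![x, y; z, -x] * !![1, -1; 0, 1] * !![-x, -y; -z, x]) *
          !![1, -1; 0, 1]) *
        (!![1, 1; 0, 1] * !![x, y; z, -x] * !![1, -1; 0, 1] * !![-x, -y; -z, x]) := by
  decide

/-- A shear moving every non-central quaternion out of its cyclic subgroup. -/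
theorem exists_shear (φ : ZMod 3 ≃+* F) :
    ∃ T : GL (Fin 2) F, ∀ g ∈ quatGroup φ, (∀ c : F, (g : Matrix (Fin 2) (Fin 2) F) ≠ c • 1) →
      T * g * T⁻¹ * g⁻¹ * (T * (T * g * T⁻¹ * g⁻¹) * T⁻¹) ≠
        T * (T * g * T⁻¹ * g⁻¹) * T⁻¹ * (T * g * T⁻¹ * g⁻¹) := by
  let T₀ : GL (Fin 2) (ZMod 3) := ⟨!![1, 1; 0, 1], !![1, -1; 0, 1], by decide, by decide⟩
  refine ⟨Units.map φ.mapMatrix.toMonoidHom T₀, fun g hg hns heq => ?_⟩
  obtain ⟨x, y, z, h, hA⟩ := exists_quat_coords φ hg.1 (hg.2.resolve_right fun ⟨c, hc⟩ => hns c hc)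
  have hinv : ∀ x y z : ZMod 3, -(x * x) - y * z = 1 →
      !![x, y; z, -x] * !![-x, -y; -z, x] = (1 : Matrix (Fin 2) (Fin 2) (ZMod 3)) ∧
      !![-x, -y; -z, x] * !![x, y; z, -x] = (1 : Matrix (Fin 2) (Fin 2) (ZMod 3)) := by decide
  let g₀ : GL (Fin 2) (ZMod 3) := ⟨!![x, y; z, -x], !![-x, -y; -z, x], (hinv x y z h).1, (hinv x y z h).2⟩
  have hg0 : g = Units.map φ.mapMatrix.toMonoidHom g₀ := Units.ext hA
  rw [hg0] at heq
  simp only [← map_inv, ← map_mul] at heq
  exact quat_move_table x y z h (congrArg Units.val (Units.map_injective φ.mapMatrix.injective heq))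

theorem exists_quat_basis (φ : ZMod 3 ≃+* F) :
    ∃ a b : GL (Fin 2) F, a ∈ quatGroup φ ∧ b ∈ quatGroup φ ∧ a * a ≠ 1 ∧
      Submodule.span F (Geo.matrixSet (quatGroup φ)) = ⊤ := by
  classical
  have h3 : (3 : F) = 0 := by
    rw [← map_ofNat φ 3, show (3 : ZMod 3) = 0 from rfl, map_zero]
  have h2 : (2 : F) ≠ 0 := fun h => one_ne_zero (by linear_combination h3 - h)
  let a : GL (Fin 2) F := Matrix.GeneralLinearGroup.mkOfDetNeZero !![0, -1; 1, 0]
    (by rw [Matrix.det_fin_two_of]; norm_num)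
  let b : GL (Fin 2) F := Matrix.GeneralLinearGroup.mkOfDetNeZero !![1, 1; 1, -1]
    (by rw [Matrix.det_fin_two_of]; intro h; exact h2 (by linear_combination -h))
  have ha : a ∈ quatGroup φ := by
    refine ⟨?_, Or.inl ?_⟩
    · show Matrix.det !![(0 : F), -1; 1, 0] = 1
      rw [Matrix.det_fin_two_of]; ring
    · show Matrix.trace !![(0 : F), -1; 1, 0] = 0
      simp [Matrix.trace_fin_two]
  have hb : b ∈ quatGroup φ := by
    refine ⟨?_, Or.inl ?_⟩
    · show Matrix.det !![(1 : F), 1; 1, -1] = 1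
      rw [Matrix.det_fin_two_of]; linear_combination -h3
    · show Matrix.trace !![(1 : F), 1; 1, -1] = 0
      simp [Matrix.trace_fin_two]
  refine ⟨a, b, ha, hb, fun h => ?_, ?_⟩
  · have h' := congrArg (fun g : GL (Fin 2) F => (g : Matrix (Fin 2) (Fin 2) F) 0 0) h
    simp [a, Matrix.GeneralLinearGroup.mkOfDetNeZero, Matrix.mul_fin_two] at h'
    exact h2 (by linear_combination -h')
  refine eq_top_iff.2 fun M _ => ?_
  have hM : M = (-(M 0 0 + M 1 1)) • ((1 : GL (Fin 2) F) : Matrix (Fin 2) (Fin 2) F) +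
      (-(M 1 0 - M 0 1)) • (a : Matrix (Fin 2) (Fin 2) F) +
      ((M 0 0 - M 1 1) + (M 0 1 + M 1 0)) • (b : Matrix (Fin 2) (Fin 2) F) +
      ((M 0 1 + M 1 0) - (M 0 0 - M 1 1)) • ((a * b : GL (Fin 2) F) : Matrix (Fin 2) (Fin 2) F) := by
    ext i j
    fin_cases i <;> fin_cases j <;>
      simp [a, b, Matrix.GeneralLinearGroup.mkOfDetNeZero, Matrix.mul_fin_two]
    · linear_combination (M 1 1) * h3
    · linear_combination -(M 1 0) * h3
    · linear_combination -(M 0 1) * h3
    · linear_combination (M 0 0) * h3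
  rw [hM]
  exact Submodule.add_mem _ (Submodule.add_mem _ (Submodule.add_mem _
    (Submodule.smul_mem _ _ (mem_spanMat (one_mem _))) (Submodule.smul_mem _ _ (mem_spanMat ha)))
    (Submodule.smul_mem _ _ (mem_spanMat hb))) (Submodule.smul_mem _ _ (mem_spanMat (mul_mem ha hb)))

theorem trace_pureMat {m t : ℕ} (s : Fin t → Matrix (Fin m) (Fin m) F) :
    (pureMat s).trace = ∏ i, (s i).trace := by
  simp only [Matrix.trace, Matrix.diag_apply, pureMat_apply]
  exact (Fintype.prod_sum fun i a => s i a a).symm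

theorem pureGL_val {m t : ℕ} (s : Fin t → GL (Fin m) F) :
    (pureGL s : Matrix (Fin t → Fin m) (Fin t → Fin m) F) = pureMat fun i => (s i : Matrix (Fin m) (Fin m) F) := rfl

theorem pureGL_mulSingle {m t : ℕ} (i : Fin t) (a : GL (Fin m) F) :
    (pureGL (Pi.mulSingle i a) : Matrix (Fin t → Fin m) (Fin t → Fin m) F) =
      slotHom i (a : Matrix (Fin m) (Fin m) F) := by
  rw [pureGL_val, slotHom_apply]
  congr 1
  funext j
  exact Pi.apply_mulSingle (fun _ (g : GL (Fin m) F) => (g : Matrix (Fin m) (Fin m) F)) (fun _ => rfl) i a j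

theorem transpose_mul_gram {g : (Fin 2 → F) → (Fin 2 → F) → F} (hg : Geo.IsSymplecticForm g)
    {A : Matrix (Fin 2) (Fin 2) F} (hA : A.det = 1) : Aᵀ * Geo.gramMatrix g * A = Geo.gramMatrix g := by
  have h0 : ∀ a, Geo.gramMatrix g a a = 0 := fun a => hg.alternating _
  have h1 : Geo.gramMatrix g 1 0 = -Geo.gramMatrix g 0 1 := hg.skew _ _
  rw [Matrix.det_fin_two] at hA
  ext i j
  simp only [Matrix.mul_apply, Fin.sum_univ_two, Matrix.transpose_apply, h0, h1]
  fin_cases i <;> fin_cases j <;> simp [h0, h1]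
  · ring
  · linear_combination Geo.gramMatrix g 0 1 * hA
  · linear_combination -Geo.gramMatrix g 0 1 * hA
  · ring

/-- Pure tensors of determinant one are isometries of a tensor power form. -/
theorem pure_mem_isom {t : ℕ} {g : (Fin 2 → F) → (Fin 2 → F) → F} (hg : Geo.IsSymplecticForm g)
    {e : ι ≃ (Fin t → Fin 2)} {P : GL ι F} (h : Geo.IsTensorPowerFormStructure id f g e P)
    {s : Fin t → GL (Fin 2) F} (hs : ∀ i, (s i : Matrix (Fin 2) (Fin 2) F).det = 1) :
    coordGL e P (pureGL s) ∈ isom f := by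
  obtain ⟨c, hc, hform⟩ := h
  intro u v
  set M := (pureGL s : Matrix (Fin t → Fin 2) (Fin t → Fin 2) F) with hM
  set G := pureMat (fun _ : Fin t => Geo.gramMatrix g) with hG
  have hdot : ∀ x y : (Fin t → Fin 2) → F,
      f ((P : Matrix ι ι F) *ᵥ (x ∘ e)) ((P : Matrix ι ι F) *ᵥ (y ∘ e)) = c * (x ⬝ᵥ G *ᵥ y) := by
    intro x y
    rw [hform]
    simp only [dotProduct, Matrix.mulVec, hG, pureMat_apply, id_eq, Finset.mul_sum, mul_assoc]
  have hcoord : ∀ u : ι → F, ∃ x : (Fin t → Fin 2) → F, u = (P : Matrix ι ι F) *ᵥ (x ∘ e) ∧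
      (coordGL e P (pureGL s) : Matrix ι ι F) *ᵥ u = (P : Matrix ι ι F) *ᵥ ((M *ᵥ x) ∘ e) := by
    intro u
    refine ⟨(((P⁻¹ : GL ι F) : Matrix ι ι F) *ᵥ u) ∘ e.symm, ?_, ?_⟩
    · rw [Function.comp_assoc, Equiv.symm_comp_self, Function.comp_id, mulVec_inv]
    · rw [coordGL_val, coordEquiv_apply, ← Matrix.mulVec_mulVec, ← Matrix.mulVec_mulVec,
        Matrix.submatrix_mulVec_equiv]
  obtain ⟨x, hx, hgx⟩ := hcoord u
  obtain ⟨y, hy, hgy⟩ := hcoord v
  show f ((coordGL e P (pureGL s) : Matrix ι ι F) *ᵥ u) ((coordGL e P (pureGL s) : Matrix ι ι F) *ᵥ v) = f u v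
  rw [hgx, hgy, hdot, hx, hy, hdot]
  congr 1
  rw [Matrix.dotProduct_mulVec, Matrix.dotProduct_mulVec, ← Matrix.vecMul_transpose, Matrix.vecMul_vecMul,
    Matrix.dotProduct_mulVec, Matrix.vecMul_vecMul]
  congr 2
  rw [hM, pureGL_val, pureMat_transpose, hG, ← map_mul, ← map_mul]
  congr 1
  funext i
  show (s i : Matrix (Fin 2) (Fin 2) F)ᵀ * (Geo.gramMatrix g * (s i : Matrix (Fin 2) (Fin 2) F)) = _
  rw [← mul_assoc]
  exact transpose_mul_gram hg (hs i)

theorem cube_shape {G : Type*} [Group G] {ψ : (Fin 3 → G) →* GL ι F} (q : Fin 3 → G) (T : G) (i : Fin 3) :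
    ψ (Pi.mulSingle i T) * ψ q * (ψ (Pi.mulSingle i T))⁻¹ * (ψ q)⁻¹ =
      ψ (Pi.mulSingle i (T * q i * T⁻¹ * (q i)⁻¹)) := by
  rw [← map_mul, ← map_inv, ← map_mul, ← map_inv, ← map_mul]
  congr 1
  funext j
  by_cases hj : j = i
  · subst hj; simp
  · simp [Pi.mulSingle_eq_of_ne hj]

/-- Three commuting involutive isometries in dimension eight cannot generate seven traceless elements. -/
theorem no_three_involutions (hf : Geo.IsSymplecticForm f) (h2 : (2 : F) ≠ 0) (hι : Fintype.card ι = 8)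
    (b : Fin 3 → GL ι F) (hb : ∀ i, b i ∈ isom f) (hsq : ∀ i, b i * b i = 1)
    (hcomm : ∀ i j, b i * b j = b j * b i)
    (h0 : ∀ i, (b i : Matrix ι ι F).trace = 0)
    (h01 : ((b 0 : Matrix ι ι F) * b 1).trace = 0) (h02 : ((b 0 : Matrix ι ι F) * b 2).trace = 0)
    (h12 : ((b 1 : Matrix ι ι F) * b 2).trace = 0) (h012 : ((b 0 : Matrix ι ι F) * b 1 * b 2).trace = 0) :
    False := by
  classical
  let P : Fin 3 → Bool → Matrix ι ι F := fun i s => 1 + (if s then (1 : F) else -1) • (b i : Matrix ι ι F)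
  have hPc : ∀ i j s s', Commute (P i s) (P j s') := fun i j s s' => by
    have h1 : Commute (b i : Matrix ι ι F) (b j : Matrix ι ι F) := congrArg Units.val (hcomm i j)
    exact ((Commute.one_right _).add_right ((Commute.one_left _).add_left (h1.smul_left _) |>.smul_right _))
  have hPP : ∀ i s, P i s * P i s = (2 : F) • P i s := fun i s => by
    have h1 : (b i : Matrix ι ι F) * b i = 1 := congrArg Units.val (hsq i)
    simp only [P, add_mul, mul_add, one_mul, mul_one, smul_mul_assoc, mul_smul_comm, h1, smul_smul, smul_add]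
    cases s <;> simp <;> module
  have hPQ : ∀ i s s', s ≠ s' → P i s * P i s' = 0 := fun i s s' hss => by
    have h1 : (b i : Matrix ι ι F) * b i = 1 := congrArg Units.val (hsq i)
    simp only [P, add_mul, mul_add, one_mul, mul_one, smul_mul_assoc, mul_smul_comm, h1, smul_smul]
    cases s <;> cases s' <;> simp at hss ⊢ <;> module
  have hPadj : ∀ i s u v, f (P i s *ᵥ u) v = f u (P i s *ᵥ v) := fun i s u v => by
    have h1 : (b i : Matrix ι ι F) * b i = 1 := congrArg Units.val (hsq i)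
    have h2' : f ((b i : Matrix ι ι F) *ᵥ u) v = f u ((b i : Matrix ι ι F) *ᵥ v) := by
      have h3 : f ((b i : Matrix ι ι F) *ᵥ ((b i : Matrix ι ι F) *ᵥ u)) ((b i : Matrix ι ι F) *ᵥ v) =
          f ((b i : Matrix ι ι F) *ᵥ u) v := hb i _ _
      rw [Matrix.mulVec_mulVec, h1, Matrix.one_mulVec] at h3
      exact h3.symm
    simp only [P, Matrix.add_mulVec, Matrix.smul_mulVec, Matrix.one_mulVec, hf.bilinear.add_left,
      hf.bilinear.smul_left, hf.bilinear.add_right, hf.bilinear.smul_right, h2']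
  let E : (Bool × Bool × Bool) → Matrix ι ι F := fun χ => P 0 χ.1 * (P 1 χ.2.1 * P 2 χ.2.2)
  have hEadj : ∀ χ u v, f (E χ *ᵥ u) v = f u (E χ *ᵥ v) := fun χ u v => by
    simp only [E, ← Matrix.mulVec_mulVec]
    rw [hPadj, hPadj, hPadj]
    congr 1
    simp only [Matrix.mulVec_mulVec]
    congr 1
    rw [(hPc 1 0 χ.2.1 χ.1).eq, ← mul_assoc, (hPc 2 0 χ.2.2 χ.1).eq, mul_assoc, (hPc 2 1 χ.2.2 χ.2.1).eq]
  have hmul : ∀ χ χ', E χ * E χ' = (P 0 χ.1 * P 0 χ'.1) * ((P 1 χ.2.1 * P 1 χ'.2.1) *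
      (P 2 χ.2.2 * P 2 χ'.2.2)) := fun χ χ' => by
    show P 0 χ.1 * (P 1 χ.2.1 * P 2 χ.2.2) * (P 0 χ'.1 * (P 1 χ'.2.1 * P 2 χ'.2.2)) = _
    rw [((hPc 1 0 χ.2.1 χ'.1).mul_left (hPc 2 0 χ.2.2 χ'.1)).mul_mul_mul_comm,
      (hPc 2 1 χ.2.2 χ'.2.1).mul_mul_mul_comm]
  have hEE : ∀ χ, E χ * E χ = (8 : F) • E χ := fun χ => by
    rw [hmul, hPP, hPP, hPP, smul_mul_smul_comm, smul_mul_smul_comm]
    norm_num [E]
  have hEQ : ∀ χ χ', χ ≠ χ' → E χ * E χ' = 0 := fun χ χ' hne => by
    rw [hmul]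
    obtain ⟨a, b, c⟩ := χ
    obtain ⟨a', b', c'⟩ := χ'
    by_cases ha : a = a'
    · by_cases hb' : b = b'
      · have hc : c ≠ c' := fun hc => hne (by rw [ha, hb', hc])
        rw [hPQ 2 c c' hc, mul_zero, mul_zero]
      · rw [hPQ 1 b b' hb', zero_mul, mul_zero]
    · rw [hPQ 0 a a' ha, zero_mul]
  have h8 : (8 : F) ≠ 0 := by rw [show (8 : F) = 2 * 2 * 2 by norm_num]; exact mul_ne_zero (mul_ne_zero h2 h2) h2
  have htr : ∀ χ, (E χ).trace = 8 := fun χ => by
    simp only [E, P, add_mul, mul_add, one_mul, mul_one, smul_mul_assoc, mul_smul_comm, Matrix.trace_add,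
      Matrix.trace_smul, h0, h01, h02, h12, Matrix.trace_one, hι, smul_eq_mul, mul_zero, add_zero,
      ← mul_assoc, h012]
    simp
  have hsel : ∀ χ, ∃ u v : ι → F, f (E χ *ᵥ u) (E χ *ᵥ v) ≠ 0 := by
    intro χ
    obtain ⟨u, hu⟩ : ∃ u, E χ *ᵥ u ≠ 0 := by
      by_contra hcon
      push Not at hcon
      have hz : E χ = 0 := Matrix.ext_of_mulVec_single fun i => by rw [hcon, Matrix.zero_mulVec]
      have := htr χ
      rw [hz, Matrix.trace_zero] at this
      exact h8 this.symm
    obtain ⟨v, hv⟩ := (hf.nondegenerate _ hu).2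
    refine ⟨u, v, ?_⟩
    rw [← hEadj, Matrix.mulVec_mulVec, hEE, Matrix.smul_mulVec, hf.bilinear.smul_left]
    exact mul_ne_zero h8 hv
  choose u v huv using hsel
  let T : (Bool × Bool × Bool) × Bool → (ι → F) := fun k => E k.1 *ᵥ (if k.2 then u k.1 else v k.1)
  have hcross : ∀ χ χ', χ ≠ χ' → ∀ x y, f (E χ *ᵥ x) (E χ' *ᵥ y) = 0 := fun χ χ' hne x y => by
    rw [hEadj, Matrix.mulVec_mulVec, hEQ χ χ' hne, Matrix.zero_mulVec, zero_right hf]
  have hli : LinearIndependent F T := by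
    rw [Fintype.linearIndependent_iff]
    intro s hs k
    obtain ⟨χ, ε⟩ := k
    have h1 := congrArg (MaxCl.flin hf.bilinear (T (χ, !ε))) hs
    rw [map_sum, map_zero, Finset.sum_eq_single (χ, ε)] at h1
    · rw [map_smul, smul_eq_mul] at h1
      refine (mul_eq_zero.1 h1).resolve_right ?_
      show f (T (χ, ε)) (T (χ, !ε)) ≠ 0
      cases ε
      · simp only [T]
        rw [hf.skew]
        exact neg_ne_zero.2 (huv χ)
      · exact huv χ
    · rintro ⟨χ', ε'⟩ - hne
      rw [map_smul, smul_eq_mul, mul_eq_zero]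
      right
      show f (T (χ', ε')) (T (χ, !ε)) = 0
      by_cases hχ : χ' = χ
      · subst hχ
        have : ε' = !ε := by cases ε <;> cases ε' <;> simp at hne ⊢
        rw [this]
        exact hf.alternating _
      · exact hcross _ _ hχ _ _
    · exact fun h => absurd (Finset.mem_univ _) h
  have hle := hli.fintype_card_le_finrank
  rw [Module.finrank_fintype_fun_eq_card, hι] at hle
  simp at hle

/-- Over the field with three elements the cube stabiliser normalises `2^(1+6)` of minus type. -/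
theorem exists_normalizer_of_cube [Fintype F] (hf : Geo.IsSymplecticForm f) (h3 : Fintype.card F = 3)
    {g : (Fin 2 → F) → (Fin 2 → F) → F} (hg : Geo.IsSymplecticForm g)
    {e : ι ≃ (Fin 3 → Fin 2)} {P : GL ι F} (h : Geo.IsTensorPowerFormStructure id f g e P) :
    ∃ R : Subgroup (GL ι F), Geo.IsSymplecticTypeGroup 2 R ∧
      Geo.ActsAbsolutelyIrreducibly (Geo.matrixSet R) ∧ R ≤ Geo.similarityGroup f ∧
      Nat.card R = 128 ∧ Nat.card (Subgroup.center R) = 2 ∧ Geo.IsOfMinusType 3 R ∧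
      Geo.tensorWreathSubgroup 2 3 e P ≤ Geo.subgroupNormalizer R := by
  classical
  let φ : ZMod 3 ≃+* F := FiniteField.ringEquivOfCardEq (by rw [h3, ZMod.card])
  let Q := quatGroup φ
  let ψ : (Fin 3 → GL (Fin 2) F) →* GL ι F := (coordGL e P).toMonoidHom.comp pureGL
  let D : Subgroup (Fin 3 → GL (Fin 2) F) := Subgroup.pi Set.univ fun _ => Q
  have hD : ∀ q, q ∈ D ↔ ∀ i, q i ∈ Q := fun q => by simp [D, Subgroup.mem_pi]
  let R : Subgroup (GL ι F) := D.map ψ
  have h30 : (3 : F) = 0 := by rw [← map_ofNat φ 3, show (3 : ZMod 3) = 0 from rfl, map_zero]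
  have h2 : (2 : F) ≠ 0 := fun hh => one_ne_zero (by linear_combination h30 - hh)
  have hι : Fintype.card ι = 8 := by rw [Fintype.card_congr e]; simp
  have : Nonempty ι := ⟨e.symm 0⟩
  have hsc : ∀ {c : F}, c ≠ 0 → c = 1 ∨ c = -1 := by
    intro c hc
    obtain ⟨k, rfl⟩ := φ.surjective c
    have : ∀ k : ZMod 3, k = 0 ∨ k = 1 ∨ k = -1 := by decide
    rcases this k with rfl | rfl | rfl
    · exact absurd (map_zero φ) hc
    · exact Or.inl (map_one φ)
    · exact Or.inr (by rw [map_neg, map_one])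
  have hψi : Function.Injective (coordGL e P : GL (Fin 3 → Fin 2) F → GL ι F) := (coordGL e P).injective
  have hmemR : ∀ {q : Fin 3 → GL (Fin 2) F}, (∀ i, q i ∈ Q) → ψ q ∈ R := fun hq =>
    ⟨_, (hD _).2 hq, rfl⟩
  have hsingle : ∀ (i : Fin 3) {a : GL (Fin 2) F}, a ∈ Q → ψ (Pi.mulSingle i a) ∈ R := by
    intro i a ha
    refine hmemR fun j => ?_
    by_cases hj : j = i
    · subst hj; simpa using ha
    · rw [Pi.mulSingle_eq_of_ne hj]; exact one_mem _
  have hisom : R ≤ isom f := by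
    rintro _ ⟨q, hq, rfl⟩
    exact pure_mem_isom hg h fun i => ((hD q).1 hq i).1
  obtain ⟨a, -, ha, -, haa, hspanQ⟩ := exists_quat_basis φ
  -- spanning
  have hspan : spanMat R = ⊤ := by
    have hslot : ∀ i M, coordEquiv e P (slotHom i M) ∈ spanMat R := by
      intro i M
      have hM : M ∈ Submodule.span F (Geo.matrixSet Q) := hspanQ ▸ Submodule.mem_top
      induction hM using Submodule.span_induction with
      | mem y hy =>
        obtain ⟨y, hy, rfl⟩ := hy
        rw [← pureGL_mulSingle, ← coordGL_val]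
        exact mem_spanMat (hsingle i hy)
      | zero => rw [map_zero, map_zero]; exact zero_mem _
      | add x y _ _ ihx ihy => rw [map_add, map_add]; exact add_mem ihx ihy
      | smul c x _ ih => rw [map_smul, map_smul]; exact Submodule.smul_mem _ c ih
    have hmul : ∀ A ∈ spanMat R, ∀ B ∈ spanMat R, A * B ∈ spanMat R := by
      intro A hA B hB
      induction hA using Submodule.span_induction with
      | mem y hy => obtain ⟨y, hy, rfl⟩ := hy; exact mul_mem_spanMat hy hB
      | zero => rw [zero_mul]; exact zero_mem _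
      | add x y _ _ ihx ihy => rw [add_mul]; exact add_mem ihx ihy
      | smul c x _ ih => rw [smul_mul_assoc]; exact Submodule.smul_mem _ c ih
    have hpure : ∀ s : Fin 3 → Matrix (Fin 2) (Fin 2) F, coordEquiv e P (pureMat s) ∈ spanMat R := by
      intro s
      have hs : s = Pi.mulSingle 0 (s 0) * (Pi.mulSingle 1 (s 1) * Pi.mulSingle 2 (s 2)) := by
        funext i; fin_cases i <;> simp [Pi.mulSingle_apply]
      rw [hs, map_mul, map_mul, map_mul, map_mul, ← slotHom_apply, ← slotHom_apply, ← slotHom_apply]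
      exact hmul _ (hslot _ _) _ (hmul _ (hslot _ _) _ (hslot _ _))
    refine eq_top_iff.2 fun M _ => ?_
    obtain ⟨X, rfl⟩ := (coordEquiv e P).surjective M
    rw [Matrix.matrix_eq_sum_single X, map_sum]
    refine Submodule.sum_mem _ fun x _ => ?_
    rw [map_sum]
    refine Submodule.sum_mem _ fun y _ => ?_
    rw [← mul_one (X x y), ← smul_eq_mul, ← Matrix.smul_single, map_smul, ← pureMat_single]
    exact Submodule.smul_mem _ _ (hpure _)
  have hR : AbsIrr R := absIrr_of_spanMat hspan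
  -- scalar components
  have hallsc : ∀ q : Fin 3 → GL (Fin 2) F, (∀ i, ∃ c : F, (q i : Matrix (Fin 2) (Fin 2) F) = c • 1) →
      ψ q ∈ Geo.scalars ι F := by
    intro q hq
    choose c hc using hq
    refine mem_scalars_of_smul_one (c := ∏ i, c i) ?_
    show coordEquiv e P (pureGL q : Matrix _ _ F) = _
    rw [pureGL_val, show (fun i => (q i : Matrix (Fin 2) (Fin 2) F)) = fun i => c i • (1 : Matrix _ _ F) from
      funext hc, pureMat_smul, show (fun _ : Fin 3 => (1 : Matrix (Fin 2) (Fin 2) F)) = 1 from rfl, map_one,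
      map_smul, map_one]
  have htr : ∀ x ∈ R, x ∉ Geo.scalars ι F → (x : Matrix ι ι F).trace = 0 := by
    rintro _ ⟨q, hq, rfl⟩ hns
    obtain ⟨i, hi⟩ : ∃ i, ∀ c : F, (q i : Matrix (Fin 2) (Fin 2) F) ≠ c • 1 := by
      by_contra hcon
      push Not at hcon
      exact hns (hallsc q hcon)
    show (coordEquiv e P (pureGL q : Matrix _ _ F)).trace = 0
    rw [coordEquiv_apply, Matrix.trace_units_conj, pureGL_val]
    have hre : ∀ M : Matrix (Fin 3 → Fin 2) (Fin 3 → Fin 2) F, (M.submatrix e e).trace = M.trace := fun M =>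
      e.sum_comp fun k => M k k
    rw [hre, trace_pureMat]
    exact Finset.prod_eq_zero (Finset.mem_univ i) (((hD q).1 hq i).2.resolve_right fun ⟨c, hc⟩ => hi c hc)
  have hQ4 : ∀ q ∈ Q, q ^ 4 = 1 := by
    intro q hq
    have h22 : q ^ 2 = 1 ∨ (q : Matrix (Fin 2) (Fin 2) F) ^ 2 = -1 := by
      rcases hq.2 with ht | ⟨c, hc⟩
      · refine Or.inr ?_
        have hd := hq.1
        rw [Matrix.det_fin_two] at hd
        rw [Matrix.trace_fin_two] at ht
        rw [pow_two]
        ext i j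
        fin_cases i <;> fin_cases j <;> simp [Matrix.mul_apply, Fin.sum_univ_two]
        · linear_combination (q : Matrix (Fin 2) (Fin 2) F) 0 0 * ht - hd
        · linear_combination (q : Matrix (Fin 2) (Fin 2) F) 0 1 * ht
        · linear_combination (q : Matrix (Fin 2) (Fin 2) F) 1 0 * ht
        · linear_combination (q : Matrix (Fin 2) (Fin 2) F) 1 1 * ht - hd
      · refine Or.inl (Units.ext ?_)
        have hc0 : c ≠ 0 := fun h0 => q.ne_zero (by rw [hc, h0, zero_smul])
        rw [Units.val_pow_eq_pow_val, hc, smul_pow, one_pow, Units.val_one]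
        rcases hsc hc0 with rfl | rfl <;> simp
    rcases h22 with h22 | h22
    · rw [show 4 = 2 * 2 from rfl, pow_mul, h22, one_pow]
    · refine Units.ext ?_
      rw [Units.val_pow_eq_pow_val, show 4 = 2 * 2 from rfl, pow_mul, h22, neg_one_sq, Units.val_one]
  have hR4 : ∀ x : R, x ^ 4 = 1 := by
    rintro ⟨_, q, hq, rfl⟩
    refine Subtype.ext ?_
    show ψ q ^ 4 = 1
    rw [← map_pow, show q ^ 4 = 1 from funext fun i => hQ4 _ ((hD q).1 hq i), map_one]
  -- the scalars in `R` are `±1`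
  have hscR : Nat.card ((Geo.scalars ι F).subgroupOf R) = 2 := by
    have hneg : ψ (Pi.mulSingle 0 (a * a)) ∈ R := hsingle 0 (mul_mem ha ha)
    have hane : ψ (Pi.mulSingle 0 (a * a)) ≠ 1 := fun h1 => haa <| by
      have h2 := congrArg Units.val (hψi (h1.trans (map_one (coordGL e P)).symm))
      rw [pureGL_mulSingle, Units.val_one] at h2
      exact Units.ext (slotHom_injective 0 (h2.trans (map_one _).symm))
    have hamem : ψ (Pi.mulSingle 0 (a * a)) ∈ Geo.scalars ι F := by
      refine hallsc _ fun i => ?_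
      by_cases hi : i = 0
      · subst hi
        rw [Pi.mulSingle_eq_same]
        rcases ha.2 with ht | ⟨c, hc⟩
        · refine ⟨-1, ?_⟩
          have hd := ha.1
          rw [Matrix.det_fin_two] at hd
          rw [Matrix.trace_fin_two] at ht
          rw [Units.val_mul]
          ext i j
          fin_cases i <;> fin_cases j <;> simp [Matrix.mul_apply, Fin.sum_univ_two]
          · linear_combination (a : Matrix (Fin 2) (Fin 2) F) 0 0 * ht - hd
          · linear_combination (a : Matrix (Fin 2) (Fin 2) F) 0 1 * ht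
          · linear_combination (a : Matrix (Fin 2) (Fin 2) F) 1 0 * ht
          · linear_combination (a : Matrix (Fin 2) (Fin 2) F) 1 1 * ht - hd
        · exact ⟨c * c, by rw [Units.val_mul, hc, smul_mul_assoc, one_mul, smul_smul]⟩
      · exact ⟨1, by rw [Pi.mulSingle_eq_of_ne hi, Units.val_one, one_smul]⟩
    rw [Nat.card_eq_two_iff]
    refine ⟨⟨⟨_, hneg⟩, hamem⟩, 1, fun h1 => hane (congrArg (fun x : (Geo.scalars ι F).subgroupOf R => ((x : R) : GL ι F)) h1), ?_⟩
    refine Set.eq_univ_of_forall fun ⟨⟨x, hx⟩, hxs⟩ => ?_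
    obtain ⟨c, hc⟩ := (Geo.mem_scalars_iff x).1 hxs
    obtain ⟨c', hc'⟩ := (Geo.mem_scalars_iff _).1 hamem
    have hc1 : (c' : F) ≠ 1 := fun h1 => hane (Units.ext (by rw [hc', h1, one_smul, Units.val_one]))
    rcases hsc c.ne_zero with h1 | h1
    · right
      exact Subtype.ext (Subtype.ext (Units.ext (by rw [hc, h1, one_smul]; rfl)))
    · left
      exact Subtype.ext (Subtype.ext (Units.ext (by rw [hc, h1, hc', (hsc c'.ne_zero).resolve_left hc1])))
  have hZ : Nat.card (Subgroup.center R) = 2 := by rw [card_center_eq hR, hscR]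
  have hcard : Nat.card R = 128 := by rw [(card_of_traceless hR htr).2, hι, hscR]; norm_num
  -- the normaliser
  have hconjD : ∀ s : Fin 3 → GL (Fin 2) F, ∀ x ∈ R, ψ s * x * (ψ s)⁻¹ ∈ R := by
    rintro s _ ⟨q, hq, rfl⟩
    rw [← map_mul, ← map_inv, ← map_mul]
    exact hmemR fun i => quatGroup_conj (s i) ((hD q).1 hq i)
  have hnorm : Geo.tensorWreathSubgroup 2 3 e P ≤ Geo.subgroupNormalizer R := by
    have hfwd : ∀ s ∈ Geo.tensorWreathStandard 2 3 F, ∀ x ∈ R,
        coordGL e P s * x * (coordGL e P s)⁻¹ ∈ R := by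
      intro s hs x hx
      obtain ⟨_, ⟨p, rfl⟩, σ, rfl⟩ := exists_pure_perm hs
      have hperm : coordGL e P (permGL σ) * x * (coordGL e P (permGL σ))⁻¹ ∈ R := by
        obtain ⟨q, hq, rfl⟩ := hx
        show coordGL e P (permGL σ) * coordGL e P (pureGL q) * _ ∈ R
        rw [← map_inv, ← map_mul, ← map_mul]
        have : permGL σ * pureGL q * (permGL σ)⁻¹ = pureGL (fun i => q (σ.symm i)) := by
          refine Units.ext (Matrix.ext fun x w => ?_)
          have h1 : ∀ z : Fin 3 → Fin 2, w = z ∘ σ.symm ↔ z = w ∘ σ := fun z => by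
            constructor <;> rintro rfl <;> funext j <;> simp
          simp only [permGL, Units.inv_mk, Units.val_mul, Matrix.mul_apply, Matrix.of_apply, ite_mul, one_mul,
            zero_mul, Finset.sum_ite_eq', Finset.mem_univ, if_true, mul_ite, mul_one, mul_zero, h1]
          show ∏ i, ((q i : GL (Fin 2) F) : Matrix (Fin 2) (Fin 2) F) ((x ∘ σ) i) ((w ∘ σ) i) =
            ∏ i, ((q (σ.symm i) : GL (Fin 2) F) : Matrix (Fin 2) (Fin 2) F) (x i) (w i)
          exact Fintype.prod_equiv σ _ _ fun i => by simp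
        rw [this]
        exact hmemR fun i => (hD q).1 hq _
      rw [map_mul, show coordGL e P (pureGL p) * coordGL e P (permGL σ) * x *
          (coordGL e P (pureGL p) * coordGL e P (permGL σ))⁻¹ = ψ p *
          (coordGL e P (permGL σ) * x * (coordGL e P (permGL σ))⁻¹) * (ψ p)⁻¹ by
        simp only [ψ, MonoidHom.coe_comp, MulEquiv.coe_toMonoidHom, Function.comp_apply]; group]
      exact hconjD p _ hperm
    rintro _ ⟨_, ⟨s, hs, rfl⟩, rfl⟩
    show P * Geo.glReindex e.symm s * P⁻¹ ∈ _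
    rw [← coordGL_eq]
    refine Subgroup.mem_normalizer_iff.2 fun x => ⟨hfwd s hs x, fun hx => ?_⟩
    have := hfwd s⁻¹ (inv_mem hs) _ hx
    rw [map_inv, inv_inv] at this
    rwa [show (coordGL e P s)⁻¹ * (coordGL e P s * x * (coordGL e P s)⁻¹) * coordGL e P s = x by group] at this
  refine ⟨R, ⟨Nat.prime_two, fun x => ⟨2, hR4 x⟩, ?_, ?_⟩, hR,
    hisom.trans fun x hx => ⟨1, fun u v => by rw [Units.val_one, one_mul]; exact hx u v⟩,
    hcard, hZ, ?_, hnorm⟩
  · -- characteristic abelian subgroups are central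
    intro A hA hAc
    suffices hle : A ≤ Subgroup.center R by
      have : Finite (Subgroup.center R) := Nat.finite_of_card_ne_zero (by omega)
      have : Fact (Nat.Prime 2) := ⟨Nat.prime_two⟩
      have : IsCyclic (Subgroup.center R) := isCyclic_of_prime_card hZ
      exact isCyclic_of_injective (Subgroup.inclusion hle) (Subgroup.inclusion_injective hle)
    obtain ⟨T, hT⟩ := exists_shear φ
    rintro ⟨_, q, hq, rfl⟩ hx
    by_contra hxc
    obtain ⟨i, hi⟩ : ∃ i, ∀ c : F, (q i : Matrix (Fin 2) (Fin 2) F) ≠ c • 1 := by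
      by_contra hcon
      push Not at hcon
      exact hxc (Subgroup.mem_center_iff.2 fun y => Subtype.ext (scalar_comm (hallsc q hcon) _).symm)
    let t := ψ (Pi.mulSingle i T)
    let α : R ≃* R :=
      { toFun := fun x => ⟨t * x * t⁻¹, hconjD _ _ x.2⟩
        invFun := fun x => ⟨t⁻¹ * x * t, by
          have := hconjD (Pi.mulSingle i T)⁻¹ _ x.2
          rwa [map_inv, inv_inv] at this⟩
        left_inv := fun x => Subtype.ext (by show t⁻¹ * (t * x * t⁻¹) * t = x; group)
        right_inv := fun x => Subtype.ext (by show t * (t⁻¹ * x * t) * t⁻¹ = x; group)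
        map_mul' := fun x y => Subtype.ext (by
          show t * (x * y) * t⁻¹ = t * x * t⁻¹ * (t * y * t⁻¹); group) }
    have hα : ∀ x ∈ A, α x ∈ A := fun x hx => by
      have := hA.fixed α
      rw [← this] at hx
      exact hx
    set C := T * q i * T⁻¹ * (q i)⁻¹ with hC
    have hC' : C ∈ Q := mul_mem (quatGroup_conj T ((hD q).1 hq i)) (inv_mem ((hD q).1 hq i))
    have hy : (⟨ψ (Pi.mulSingle i C), hsingle i hC'⟩ : R) ∈ A := by
      have := mul_mem (hα _ hx) (inv_mem hx)
      convert this using 1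
      exact Subtype.ext (cube_shape q T i).symm
    have hz : (⟨ψ (Pi.mulSingle i (T * C * T⁻¹)), hsingle i (quatGroup_conj T hC')⟩ : R) ∈ A := by
      have := hα _ hy
      convert this using 1
      refine Subtype.ext ?_
      show _ = t * ψ (Pi.mulSingle i C) * t⁻¹
      simp only [t, ← map_mul, ← map_inv]
      congr 1
      funext j
      by_cases hj : j = i
      · subst hj; simp
      · simp [Pi.mulSingle_eq_of_ne hj]
    have hcm := congrArg (fun x : A => ((x : R) : GL ι F)) (hAc.is_comm.comm ⟨_, hy⟩ ⟨_, hz⟩)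
    simp only [MulMemClass.coe_mul, ← map_mul, ← Pi.mulSingle_mul] at hcm
    have hcm' := congrArg Units.val (hψi hcm)
    rw [pureGL_mulSingle, pureGL_mulSingle] at hcm'
    exact hT _ ((hD q).1 hq i) hi (Units.ext (slotHom_injective i hcm'))
  · -- exponent four
    show Monoid.exponent R = 4
    have hdvd : Monoid.exponent R ∣ 2 ^ 2 := Monoid.exponent_dvd_of_forall_pow_eq_one hR4
    obtain ⟨k, hk, hke⟩ := (Nat.dvd_prime_pow Nat.prime_two).1 hdvd
    rw [hke]
    by_contra hne
    have hk1 : k ≤ 1 := by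
      rcases Nat.lt_or_ge k 2 with h | h
      · omega
      · exact absurd (by rw [show k = 2 by omega]; rfl) hne
    have hsq : (⟨_, hsingle 0 ha⟩ : R) ^ (2 : ℕ) = 1 := by
      refine orderOf_dvd_iff_pow_eq_one.1 ((Monoid.order_dvd_exponent _).trans ?_)
      rw [hke]
      exact Nat.pow_dvd_pow 2 hk1
    have h2' := congrArg (fun x : R => ((x : GL ι F))) hsq
    simp only [SubgroupClass.coe_pow, OneMemClass.coe_one, ← map_pow] at h2'
    have h3' := congrArg Units.val (hψi (h2'.trans (map_one (coordGL e P)).symm))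
    rw [← Pi.mulSingle_pow, pureGL_mulSingle, Units.val_one, pow_two] at h3'
    exact haa (Units.ext (slotHom_injective 0 (h3'.trans (map_one _).symm)))
  · -- minus type
    intro A hA hA2
    by_contra hlt
    push Not at hlt
    have hF : ∀ x : R, (x : GL ι F) ∈ Geo.scalars ι F →
        ((x : GL ι F) : Matrix ι ι F) = 1 ∨ ((x : GL ι F) : Matrix ι ι F) = -1 := by
      intro x hx
      obtain ⟨c, hc⟩ := (Geo.mem_scalars_iff _).1 hx
      rcases hsc c.ne_zero with h1 | h1 <;> rw [hc, h1] <;> simp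
    let val : A → Matrix ι ι F := fun x => (((x : R) : GL ι F) : Matrix ι ι F)
    have hvi : Function.Injective val := fun x y hxy => Subtype.ext (Subtype.ext (Units.ext hxy))
    have hpick : ∀ S : Finset (Matrix ι ι F), S.card < 16 → ∃ b : A, val b ∉ S := by
      intro S hS
      by_contra hcon
      push Not at hcon
      have h1 : Fintype.card A ≤ Fintype.card S :=
        Fintype.card_le_of_injective (fun x => ⟨val x, hcon x⟩) fun x y hxy => hvi (congrArg Subtype.val hxy)
      rw [Fintype.card_coe, ← Nat.card_eq_fintype_card] at h1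
      rw [show (2 : ℕ) ^ (3 + 1) = 16 from rfl] at hlt
      omega
    obtain ⟨b0, hb0⟩ := hpick {1, -1} (lt_of_le_of_lt Finset.card_le_two (by norm_num))
    obtain ⟨b1, hb1⟩ := hpick {1, -1, val b0, -val b0} (lt_of_le_of_lt Finset.card_le_four (by norm_num))
    obtain ⟨b2, hb2⟩ := hpick ({1, -1, val b0, -val b0} ∪ {val b1, -val b1, val b0 * val b1, -(val b0 * val b1)})
      (lt_of_le_of_lt (Finset.card_union_le _ _)
        (lt_of_le_of_lt (add_le_add Finset.card_le_four Finset.card_le_four) (by norm_num)))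
    simp only [Finset.mem_insert, Finset.mem_singleton, Finset.mem_union, not_or] at hb0 hb1 hb2
    have hval : ∀ x y : A, val (x * y) = val x * val y := fun x y => rfl
    have hinv : ∀ x : A, val x * val x = 1 := fun x =>
      congrArg (fun z : R => ((z : GL ι F) : Matrix ι ι F)) (hA2 x x.2)
    have hz : ∀ x : A, val x ≠ 1 → val x ≠ -1 → (val x).trace = 0 := fun x h1 h2 => by
      refine htr _ (x : R).2 fun hs => ?_
      rcases hF (x : R) hs with h | h
      · exact h1 h
      · exact h2 h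
    have hcanc : ∀ (x y : A) (M : Matrix ι ι F), val x * val y = M → val y = val x * M := fun x y M hM => by
      rw [← hM, ← mul_assoc, hinv, one_mul]
    let b : Fin 3 → GL ι F := ![((b0 : R) : GL ι F), ((b1 : R) : GL ι F), ((b2 : R) : GL ι F)]
    refine no_three_involutions hf h2 hι b ?_ ?_ ?_ ?_ ?_ ?_ ?_ ?_
    · intro i; fin_cases i <;> exact hisom (SetLike.coe_mem _)
    · intro i
      fin_cases i <;> exact congrArg Subtype.val (hA2 _ (SetLike.coe_mem _))
    · intro i j
      fin_cases i <;> fin_cases j <;> exact congrArg (fun z : A => ((z : R) : GL ι F)) (hA.is_comm.comm _ _)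
    · intro i
      fin_cases i
      · exact hz b0 hb0.1 hb0.2
      · exact hz b1 hb1.1 hb1.2.1
      · exact hz b2 hb2.1.1 hb2.1.2.1
    · refine hz (b0 * b1) (fun h => hb1.2.2.1 ?_) (fun h => hb1.2.2.2 ?_)
      · rw [hcanc _ _ _ h, mul_one]
      · rw [hcanc _ _ _ h, mul_neg, mul_one]
    · refine hz (b0 * b2) (fun h => hb2.1.2.2.1 ?_) (fun h => hb2.1.2.2.2 ?_)
      · rw [hcanc _ _ _ h, mul_one]
      · rw [hcanc _ _ _ h, mul_neg, mul_one]
    · refine hz (b1 * b2) (fun h => hb2.2.1 ?_) (fun h => hb2.2.2.1 ?_)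
      · rw [hcanc _ _ _ h, mul_one]
      · rw [hcanc _ _ _ h, mul_neg, mul_one]
    · refine hz (b0 * b1 * b2) (fun h => hb2.2.2.2.1 ?_) (fun h => hb2.2.2.2.2 ?_)
      · rw [hcanc _ _ _ h, mul_one]; rfl
      · rw [hcanc _ _ _ h, mul_neg, mul_one]; rfl

end Cfsg.Agent.Aschbacher.SpExplicit
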