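import Cfsg.Agent.Lib.Aschbacher.SpExplicit.TensorCommon
import Cfsg.Agent.Lib.Aschbacher.SpExplicit.WreathNonContain

/-!
A tensor decomposition `Sp₂ ⊗ O₄⁺` is stabilised inside the stabiliser of a tensor cube `Sp₂ ⊗ Sp₂ ⊗ Sp₂`.
-/

set_option autoImplicit false

namespace Cfsg.Agent.Aschbacher.SpExplicit

open Matrix
open scoped MatrixGroups

variable {ι : Type} [Fintype ι] [DecidableEq ι] {F : Type*} [Field F]
  {f : (ι → F) → (ι → F) → F}

/-- The alternating form in dimension two. -/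
def det2 (u v : Fin 2 → F) : F := u 0 * v 1 - u 1 * v 0

theorem det2_symplectic : Geo.IsSymplecticForm (det2 (F := F)) := by
  refine ⟨⟨fun x y v => ?_, fun c x v => ?_, fun v x y => ?_, fun c v x => ?_⟩, fun v w => ?_,
    fun v => ?_, fun v hv => ?_⟩
  · simp only [det2, Pi.add_apply]; ring
  · simp only [det2, Pi.smul_apply, smul_eq_mul]; ring
  · simp only [det2, Pi.add_apply]; ring
  · simp only [det2, Pi.smul_apply, smul_eq_mul]; ring
  · simp only [det2]; ring
  · simp only [det2]; ring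
  · by_cases h0 : v 0 = 0
    · have h1 : v 1 ≠ 0 := fun h1 => hv (funext fun i => by fin_cases i <;> assumption)
      exact ⟨⟨![1, 0], by simpa [det2, h0] using h1⟩, ![1, 0], by simp [det2, h0, h1]⟩
    · exact ⟨⟨![0, 1], by simp [det2, h0]⟩, ![0, 1], by simp [det2, h0]⟩

/-- A hyperbolic frame of a symmetric form of plus type in dimension four. -/
theorem exists_hyperbolic_frame (h2 : (2 : F) ≠ 0) {f₂ : (Fin 4 → F) → (Fin 4 → F) → F}
    (hs : Geo.IsSymmetricForm f₂) (hplus : Geo.IsPlusTypeOn (fun v : Fin 4 → F => f₂ v v) ⊤) :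
    ∃ w : Fin 2 → Fin 2 → (Fin 4 → F), ∀ a b c d, f₂ (w a b) (w c d) =
      Geo.gramMatrix (det2 (F := F)) a c * Geo.gramMatrix (det2 (F := F)) b d := by
  classical
  obtain ⟨U, -, hU, hUd⟩ := hplus
  rw [finrank_top, Module.finrank_fin_fun] at hUd
  let b := Module.finBasisOfFinrankEq F U (show Module.finrank F U = 2 by omega)
  set u : Fin 2 → (Fin 4 → F) := fun i => ((b i : U) : Fin 4 → F)
  have huu : ∀ i j, f₂ (u i) (u j) = 0 := by
    intro i j
    have h1 : f₂ (u i + u j) (u i + u j) = 0 := hU _ (U.add_mem (b i).2 (b j).2)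
    have hi : f₂ (u i) (u i) = 0 := hU _ (b i).2
    have hj : f₂ (u j) (u j) = 0 := hU _ (b j).2
    rw [hs.bilinear.add_left, hs.bilinear.add_right, hs.bilinear.add_right, hi, hj, hs.symm (u j) (u i)] at h1
    exact (mul_eq_zero.1 (show (2 : F) * f₂ (u i) (u j) = 0 by linear_combination h1)).resolve_left h2
  let L : (Fin 4 → F) →ₗ[F] (Fin 2 → F) := LinearMap.pi fun i => MaxCl.toBil hs.bilinear (u i)
  have hL : Function.Surjective L := by
    rw [← LinearMap.range_eq_top]
    by_contra hne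
    obtain ⟨φ, hφ0, hφ⟩ := Submodule.exists_le_ker_of_lt_top _ (lt_top_iff_ne_top.2 hne)
    obtain ⟨a, ha⟩ := exists_dotProduct_eq φ
    have hz : ∑ i, a i • u i = 0 := by
      by_contra hne0
      obtain ⟨y, hy⟩ := (hs.nondegenerate _ hne0).2
      apply hy
      have h1 : φ (L y) = 0 := hφ ⟨y, rfl⟩
      rw [ha] at h1
      show MaxCl.toBil hs.bilinear (∑ i, a i • u i) y = 0
      rw [map_sum, LinearMap.sum_apply]
      simpa [dotProduct, L] using h1
    have h1 : ∑ i, a i • b i = 0 := Subtype.ext (by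
      rw [AddSubmonoidClass.coe_finset_sum]
      simpa using hz)
    have h2' := Fintype.linearIndependent_iff.1 b.linearIndependent a h1
    exact hφ0 (LinearMap.ext fun v => by rw [ha, LinearMap.zero_apply]; simp [dotProduct, h2'])
  obtain ⟨z, hz⟩ := hL (Pi.single 0 1)
  obtain ⟨z', hz'⟩ := hL (Pi.single 1 1)
  have e00 : f₂ (u 0) z = 1 := congrFun hz 0
  have e10 : f₂ (u 1) z = 0 := congrFun hz 1
  have e01 : f₂ (u 0) z' = 0 := congrFun hz' 0
  have e11 : f₂ (u 1) z' = 1 := congrFun hz' 1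
  have hadd : ∀ (x y v : Fin 4 → F) (r : F), f₂ (x + r • y) v = f₂ x v + r * f₂ y v :=
    fun x y v r => by rw [hs.bilinear.add_left, hs.bilinear.smul_left]
  have hadd' : ∀ (v x y : Fin 4 → F) (r : F), f₂ v (x + r • y) = f₂ v x + r * f₂ v y :=
    fun v x y r => by rw [hs.bilinear.add_right, hs.bilinear.smul_right]
  set z₁ := z' + (-(f₂ z' z') / 2) • u 1 with hz₁
  set z₀ := z + (-(f₂ z z) / 2) • u 0 with hz₀
  set y₀ := z₀ + (-(f₂ z₀ z₁)) • u 1 with hy₀
  have q01 : f₂ (u 0) z₁ = 0 := by rw [hz₁, hadd', huu, e01]; ring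
  have q11 : f₂ (u 1) z₁ = 1 := by rw [hz₁, hadd', huu, e11]; ring
  have qzz : f₂ z₁ z₁ = 0 := by
    rw [hz₁, hadd, hadd', hadd', huu, e11, hs.symm z' (u 1), e11]
    field_simp
    ring
  have r00 : f₂ (u 0) z₀ = 1 := by rw [hz₀, hadd', huu, e00]; ring
  have r10 : f₂ (u 1) z₀ = 0 := by rw [hz₀, hadd', huu, e10]; ring
  have rzz : f₂ z₀ z₀ = 0 := by
    rw [hz₀, hadd, hadd', hadd', huu, e00, hs.symm z (u 0), e00]
    field_simp
    ring
  have s00 : f₂ (u 0) y₀ = 1 := by rw [hy₀, hadd', huu, r00]; ring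
  have s10 : f₂ (u 1) y₀ = 0 := by rw [hy₀, hadd', huu, r10]; ring
  have syy : f₂ y₀ y₀ = 0 := by
    rw [hy₀, hadd z₀ (u 1), hadd' z₀ z₀ (u 1), hadd' (u 1) z₀ (u 1), huu, rzz, r10, hs.symm z₀ (u 1), r10]
    ring
  have syz : f₂ y₀ z₁ = 0 := by rw [hy₀, hadd, q11]; ring
  refine ⟨fun a c => ![![u 0, u 1], ![-z₁, y₀]] a c, fun a b c d => ?_⟩
  have hn1 : ∀ x y, f₂ (-x) y = - f₂ x y := fun x y => by
    rw [← neg_one_smul F x, hs.bilinear.smul_left, neg_one_mul]
  have hn2 : ∀ x y, f₂ x (-y) = - f₂ x y := fun x y => by rw [hs.symm, hn1, hs.symm]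
  fin_cases a <;> fin_cases b <;> fin_cases c <;> fin_cases d <;>
    simp [Geo.gramMatrix, det2, hn1, hn2, huu, s00, s10, syy, syz, q01, q11, qzz, hs.symm y₀ (u 0),
      hs.symm y₀ (u 1), hs.symm z₁ (u 0), hs.symm z₁ (u 1), hs.symm z₁ y₀]

/-- The pure vector of the frame. -/
def frameVec (w : Fin 2 → Fin 2 → (Fin 4 → F)) (x y : Fin 2 → F) : Fin 4 → F :=
  ∑ a, ∑ b, (x a * y b) • w a b

theorem linearIndependent_of_dual {κ V : Type*} [Fintype κ] [AddCommGroup V] [Module F V] (T : κ → V)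
    (φ : κ → (V →ₗ[F] F)) (h0 : ∀ k l, k ≠ l → φ l (T k) = 0) (h1 : ∀ k, φ k (T k) ≠ 0) :
    LinearIndependent F T := by
  rw [Fintype.linearIndependent_iff]
  intro s hs i
  have h := congrArg (φ i) hs
  rw [map_sum, map_zero, Finset.sum_eq_single i (fun j _ hj => by rw [map_smul, h0 j i hj, smul_zero])
    (fun hn => absurd (Finset.mem_univ i) hn), map_smul, smul_eq_mul] at h
  exact (mul_eq_zero.1 h).resolve_right (h1 i)

/-- The two shapes of a similitude of a hyperbolic frame. -/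
theorem exists_frame_factors {f₂ : (Fin 4 → F) → (Fin 4 → F) → F} (h2 : (2 : F) ≠ 0)
    (hs : Geo.IsSymmetricForm f₂) {w : Fin 2 → Fin 2 → (Fin 4 → F)}
    (hw : ∀ a b c d, f₂ (w a b) (w c d) = Geo.gramMatrix (det2 (F := F)) a c * Geo.gramMatrix (det2 (F := F)) b d)
    {b : GL (Fin 4) F} {l : F} (hl0 : l ≠ 0)
    (hl : ∀ y y', f₂ ((b : Matrix _ _ F) *ᵥ y) ((b : Matrix _ _ F) *ᵥ y') = l * f₂ y y') :
    ∃ (A B : GL (Fin 2) F) (τ : Equiv.Perm (Fin 2)), ∀ i j,
      (b : Matrix _ _ F) *ᵥ w i j = frameVec w ((A : Matrix _ _ F) *ᵥ Pi.single (![i, j] (τ 0)) 1)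
        ((B : Matrix _ _ F) *ᵥ Pi.single (![i, j] (τ 1)) 1) := by
  classical
  set J := Geo.gramMatrix (det2 (F := F)) with hJ
  have hJ0 : ∀ a c, J a c = ![![(0 : F), 1], ![-1, 0]] a c := fun a c => by
    fin_cases a <;> fin_cases c <;> simp [hJ, Geo.gramMatrix, det2]
  have hfv : ∀ x y x' y', f₂ (frameVec w x y) (frameVec w x' y') = det2 x x' * det2 y y' := by
    intro x y x' y'
    simp only [frameVec, Fin.sum_univ_two, hs.bilinear.add_left, hs.bilinear.add_right,
      hs.bilinear.smul_left, hs.bilinear.smul_right, hw, hJ0, det2]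
    simp
    ring
  -- the frame spans
  have hli : LinearIndependent F fun p : Fin 2 × Fin 2 => w p.1 p.2 := by
    refine linearIndependent_of_dual _ (fun p => MaxCl.flin hs.bilinear (w (1 - p.1) (1 - p.2))) ?_ ?_
    · rintro ⟨a, c⟩ ⟨a', c'⟩ hne
      show f₂ _ _ = 0
      rw [hw, hJ0, hJ0]
      fin_cases a <;> fin_cases c <;> fin_cases a' <;> fin_cases c' <;> simp at hne ⊢
    · rintro ⟨a, c⟩
      show f₂ _ _ ≠ 0
      rw [hw, hJ0, hJ0]
      fin_cases a <;> fin_cases c <;> simp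
  let W : Module.Basis (Fin 2 × Fin 2) F (Fin 4 → F) := basisOfLinearIndependentOfCardEqFinrank hli (by simp)
  have hexp : ∀ y : Fin 4 → F, y = ∑ a, ∑ c, W.repr y (a, c) • w a c := fun y => by
    conv_lhs => rw [← W.sum_repr y]
    rw [Fintype.sum_prod_type]
    simp [W]
  -- singular vectors are pure
  have hpure : ∀ y : Fin 4 → F, f₂ y y = 0 → ∃ x x', y = frameVec w x x' := by
    intro y hy
    set M : Fin 2 → Fin 2 → F := fun a c => W.repr y (a, c) with hM
    have hy' : y = ∑ a, ∑ c, M a c • w a c := hexp y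
    have hdet : M 0 0 * M 1 1 - M 0 1 * M 1 0 = 0 := by
      have h1 : f₂ y y = 2 * (M 0 0 * M 1 1 - M 0 1 * M 1 0) := by
        conv_lhs => rw [hy']
        simp only [Fin.sum_univ_two, hs.bilinear.add_left, hs.bilinear.add_right,
          hs.bilinear.smul_left, hs.bilinear.smul_right, hw, hJ0]
        simp
        ring
      rw [hy] at h1
      exact (mul_eq_zero.1 h1.symm).resolve_left h2
    clear_value M
    have hout : ∀ (x x' : Fin 2 → F), (∀ a c, M a c = x a * x' c) → y = frameVec w x x' := fun x x' h => by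
      rw [hy']; simp only [frameVec, h]
    by_cases h00 : M 0 0 = 0
    · by_cases h01 : M 0 1 = 0
      · exact ⟨![0, 1], ![M 1 0, M 1 1], hout _ _ fun a c => by fin_cases a <;> fin_cases c <;> simp [h00, h01]⟩
      · have h10 : M 1 0 = 0 := by
          rw [h00, zero_mul, zero_sub, neg_eq_zero] at hdet
          exact (mul_eq_zero.1 hdet).resolve_left h01
        exact ⟨![M 0 1, M 1 1], ![0, 1], hout _ _ fun a c => by fin_cases a <;> fin_cases c <;> simp [h00, h10]⟩
    · refine ⟨![1, M 1 0 / M 0 0], ![M 0 0, M 0 1], hout _ _ fun a c => ?_⟩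
      fin_cases a <;> fin_cases c <;> simp [h00]
      field_simp
      linear_combination hdet
  have himg : ∀ i j, ∃ x x', (b : Matrix _ _ F) *ᵥ w i j = frameVec w x x' := fun i j =>
    hpure _ (by rw [hl, hw, hJ0, hJ0]; fin_cases i <;> fin_cases j <;> simp)
  obtain ⟨p, q, hb00⟩ := himg 0 0
  obtain ⟨r, s, hb11⟩ := himg 1 1
  obtain ⟨u, v, hb01⟩ := himg 0 1
  obtain ⟨u', v', hb10⟩ := himg 1 0
  have hrel : ∀ i j i' j' x y x' y', (b : Matrix _ _ F) *ᵥ w i j = frameVec w x y →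
      (b : Matrix _ _ F) *ᵥ w i' j' = frameVec w x' y' → det2 x x' * det2 y y' = l * (J i i' * J j j') := by
    intro i j i' j' x y x' y' h h'
    rw [← hfv, ← h, ← h', hl, hw]
  have e1 := hrel _ _ _ _ _ _ _ _ hb00 hb11
  have e2 := hrel _ _ _ _ _ _ _ _ hb00 hb01
  have e3 := hrel _ _ _ _ _ _ _ _ hb11 hb01
  have e4 := hrel _ _ _ _ _ _ _ _ hb00 hb10
  have e5 := hrel _ _ _ _ _ _ _ _ hb11 hb10
  have e6 := hrel _ _ _ _ _ _ _ _ hb01 hb10
  simp only [hJ0] at e1 e2 e3 e4 e5 e6
  simp at e1 e2 e3 e4 e5 e6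
  have hpr : det2 p r ≠ 0 := fun h => by rw [h, zero_mul] at e1; exact hl0 e1.symm
  have hqs : det2 q s ≠ 0 := fun h => by rw [h, mul_zero] at e1; exact hl0 e1.symm
  -- lines
  have hpar : ∀ (p r x : Fin 2 → F), det2 p r ≠ 0 → det2 p x = 0 → ∃ t : F, x = t • p := by
    intro p r x hpr hx
    refine ⟨det2 x r / det2 p r, funext fun i => ?_⟩
    simp only [Pi.smul_apply, smul_eq_mul]
    rw [div_mul_eq_mul_div, eq_div_iff hpr]
    simp only [det2] at hx ⊢
    fin_cases i
    · show x 0 * _ = _ * p 0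
      linear_combination r 0 * hx
    · show x 1 * _ = _ * p 1
      linear_combination r 1 * hx
  have hboth : ∀ (p r x : Fin 2 → F), det2 p r ≠ 0 → det2 p x = 0 → det2 r x = 0 → x = 0 := by
    intro p r x hpr hx hx'
    obtain ⟨t, rfl⟩ := hpar p r x hpr hx
    have h1 : det2 r (t • p) = - (t * det2 p r) := by simp only [det2, Pi.smul_apply, smul_eq_mul]; ring
    rw [h1, neg_eq_zero, mul_eq_zero] at hx'
    rw [hx'.resolve_right hpr, zero_smul]
  have hrev : ∀ {p r : Fin 2 → F}, det2 p r ≠ 0 → det2 r p ≠ 0 := fun {p r} h => by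
    rw [det2_symplectic.skew]; exact neg_ne_zero.2 h
  have hzero1 : ∀ x : Fin 2 → F, frameVec w (0 : Fin 2 → F) x = 0 := fun x => by simp [frameVec]
  have hzero2 : ∀ x : Fin 2 → F, frameVec w x (0 : Fin 2 → F) = 0 := fun x => by simp [frameVec]
  have hne : ∀ i j, (b : Matrix (Fin 4) (Fin 4) F) *ᵥ w i j ≠ 0 := fun i j h =>
    hli.ne_zero (i, j) ((Cfsg.Agent.Aschbacher.mulVec_eq_zero_iff b).1 h)
  have hu : u ≠ 0 := fun h => hne 0 1 (by rw [hb01, h, hzero1])
  have hv : v ≠ 0 := fun h => hne 0 1 (by rw [hb01, h, hzero2])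
  have hu' : u' ≠ 0 := fun h => hne 1 0 (by rw [hb10, h, hzero1])
  have hv' : v' ≠ 0 := fun h => hne 1 0 (by rw [hb10, h, hzero2])
  have hs1 : ∀ (t t' : F) (x y : Fin 2 → F), frameVec w (t • x) (t' • y) = (t * t') • frameVec w x y := by
    intro t t' x y
    simp only [frameVec, Finset.smul_sum, Pi.smul_apply, smul_eq_mul, smul_smul]
    exact Finset.sum_congr rfl fun _ _ => Finset.sum_congr rfl fun _ _ => by congr 1; ring
  have mk : ∀ x y : Fin 2 → F, det2 x y ≠ 0 → ∃ A : GL (Fin 2) F,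
      (A : Matrix (Fin 2) (Fin 2) F) *ᵥ Pi.single 0 1 = x ∧
      (A : Matrix (Fin 2) (Fin 2) F) *ᵥ Pi.single 1 1 = y := by
    intro x y h
    refine ⟨Matrix.GeneralLinearGroup.mkOfDetNeZero !![x 0, y 0; x 1, y 1] ?_, ?_, ?_⟩
    · rw [Matrix.det_fin_two_of]; simp only [det2] at h; intro h0; exact h (by linear_combination h0)
    · funext i; fin_cases i <;> simp [Matrix.GeneralLinearGroup.mkOfDetNeZero, Matrix.mulVec_single_one]
    · funext i; fin_cases i <;> simp [Matrix.GeneralLinearGroup.mkOfDetNeZero, Matrix.mulVec_single_one]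
  rcases e2 with hpu | hqv
  · -- `u` on the first line
    have hrv : det2 s v = 0 := e3.resolve_left fun h => hu (hboth p r u hpr hpu h)
    obtain ⟨α, rfl⟩ := hpar p r u hpr hpu
    obtain ⟨α', rfl⟩ := hpar s q v (hrev hqs) hrv
    have hα : α ≠ 0 := fun h => hu (by rw [h, zero_smul])
    have hα' : α' ≠ 0 := fun h => hv (by rw [h, zero_smul])
    have hv1 : det2 q v' = 0 := e4.resolve_left fun h => hu' (hboth p r u' hpr h (by
      by_contra hru
      obtain ⟨t, ht⟩ := hpar p r u' hpr h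
      have h6 := e6
      rw [ht] at h6
      simp only [det2, Pi.smul_apply, smul_eq_mul] at h6
      exact hl0 (by linear_combination h6)))
    have hu1 : det2 r u' = 0 := e5.resolve_right fun h => hv' (hboth q s v' hqs hv1 h)
    obtain ⟨β, rfl⟩ := hpar r p u' (hrev hpr) hu1
    obtain ⟨β', rfl⟩ := hpar q s v' hqs hv1
    set k := α * α' with hk
    have hk0 : k ≠ 0 := mul_ne_zero hα hα'
    have hprod : k * (β * β') = 1 := by
      have h6 : k * (β * β') * (det2 p r * det2 q s) = l := by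
        simp only [det2, Pi.smul_apply, smul_eq_mul, hk] at e6 ⊢
        linear_combination -e6
      rw [e1] at h6
      exact mul_right_cancel₀ hl0 (h6.trans (one_mul l).symm)
    obtain ⟨A, hA0, hA1⟩ := mk p ((k⁻¹ : F) • r) (by
      simp only [det2, Pi.smul_apply, smul_eq_mul] at hpr ⊢
      intro h0
      apply hpr
      field_simp at h0
      linear_combination h0)
    obtain ⟨B, hB0, hB1⟩ := mk q (k • s) (by
      simp only [det2, Pi.smul_apply, smul_eq_mul] at hqs ⊢
      intro h0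
      exact mul_ne_zero hk0 hqs (by linear_combination h0))
    refine ⟨A, B, 1, fun i j => ?_⟩
    have hs2 : ∀ (t : F) (x y : Fin 2 → F), frameVec w x (t • y) = t • frameVec w x y := fun t x y => by
      simpa using hs1 1 t x y
    have hs3 : ∀ (t : F) (x y : Fin 2 → F), frameVec w (t • x) y = t • frameVec w x y := fun t x y => by
      simpa using hs1 t 1 x y
    fin_cases i <;> fin_cases j <;> simp [hA0, hA1, hB0, hB1]
    · exact hb00
    · rw [hb01, hs1, hs2]
    · rw [hb10, hs1, hs3, eq_inv_of_mul_eq_one_right hprod]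
    · rw [hb11, hs1, inv_mul_cancel₀ hk0, one_smul]
  · -- `u` on the second line
    have hru : det2 r u = 0 := e3.resolve_right fun h => hv (hboth q s v hqs hqv h)
    obtain ⟨α, rfl⟩ := hpar r p u (hrev hpr) hru
    obtain ⟨α', rfl⟩ := hpar q s v hqs hqv
    have hα : α ≠ 0 := fun h => hu (by rw [h, zero_smul])
    have hα' : α' ≠ 0 := fun h => hv (by rw [h, zero_smul])
    have hu1 : det2 p u' = 0 := e4.resolve_right fun h => hv' (hboth q s v' hqs h (by
      by_contra hsv
      obtain ⟨t, ht⟩ := hpar q s v' hqs h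
      have h6 := e6
      rw [ht] at h6
      simp only [det2, Pi.smul_apply, smul_eq_mul] at h6
      exact hl0 (by linear_combination h6)))
    have hv1 : det2 s v' = 0 := e5.resolve_left fun h => hu' (hboth p r u' hpr hu1 h)
    obtain ⟨β, rfl⟩ := hpar p r u' hpr hu1
    obtain ⟨β', rfl⟩ := hpar s q v' (hrev hqs) hv1
    set k := α * α' with hk
    have hk0 : k ≠ 0 := mul_ne_zero hα hα'
    have hprod : k * (β * β') = 1 := by
      have h6 : k * (β * β') * (det2 p r * det2 q s) = l := by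
        simp only [det2, Pi.smul_apply, smul_eq_mul, hk] at e6 ⊢
        linear_combination -e6
      rw [e1] at h6
      exact mul_right_cancel₀ hl0 (h6.trans (one_mul l).symm)
    obtain ⟨A, hA0, hA1⟩ := mk p (k • r) (by
      simp only [det2, Pi.smul_apply, smul_eq_mul] at hpr ⊢
      intro h0
      exact mul_ne_zero hk0 hpr (by linear_combination h0))
    obtain ⟨B, hB0, hB1⟩ := mk q ((k⁻¹ : F) • s) (by
      simp only [det2, Pi.smul_apply, smul_eq_mul] at hqs ⊢
      intro h0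
      apply hqs
      field_simp at h0
      linear_combination h0)
    refine ⟨A, B, Equiv.swap 0 1, fun i j => ?_⟩
    have hs2 : ∀ (t : F) (x y : Fin 2 → F), frameVec w x (t • y) = t • frameVec w x y := fun t x y => by
      simpa using hs1 1 t x y
    have hs3 : ∀ (t : F) (x y : Fin 2 → F), frameVec w (t • x) y = t • frameVec w x y := fun t x y => by
      simpa using hs1 t 1 x y
    fin_cases i <;> fin_cases j <;> simp [hA0, hA1, hB0, hB1]
    · exact hb00
    · rw [hb01, hs1, hs3]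
    · rw [hb10, hs1, hs2, eq_inv_of_mul_eq_one_right hprod]
    · rw [hb11, hs1, mul_inv_cancel₀ hk0, one_smul]

/-- `Sp₂ ⊗ O₄⁺` lies in a tensor cube. -/
theorem exists_cube_of_tensor_plus (h2 : (2 : F) ≠ 0)
    {f₁ : (Fin 2 → F) → (Fin 2 → F) → F} {f₂ : (Fin 4 → F) → (Fin 4 → F) → F}
    (hf : Geo.IsSymplecticForm f) (h₁ : Geo.IsSymplecticForm f₁) (h₂ : Geo.IsSymmetricForm f₂)
    (hplus : Geo.IsPlusTypeOn (fun v : Fin 4 → F => f₂ v v) ⊤)
    {e : ι ≃ Fin 2 × Fin 4} {P : GL ι F} (h : Geo.IsTensorFormStructure id f f₁ f₂ e P) :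
    ∃ (e' : ι ≃ (Fin 3 → Fin 2)) (P' : GL ι F),
      Geo.IsTensorPowerFormStructure id f (det2 (F := F)) e' P' ∧
      Geo.tensorProductSubgroup 2 4 e P ⊓ isom f ≤ Geo.tensorWreathSubgroup 2 3 e' P' := by
  classical
  obtain ⟨w, hw⟩ := exists_hyperbolic_frame h2 h₂ hplus
  obtain ⟨c, hc, hform⟩ := form_pureVec h₁.bilinear h₂.bilinear h
  have hlam : ∀ x y, f₁ x y = f₁ (Pi.single 0 1) (Pi.single 1 1) * det2 x y := by
    intro x y
    rw [bilinear_eq_gram h₁.bilinear x y]
    simp only [Fin.sum_univ_two, Geo.gramMatrix, h₁.alternating, h₁.skew (Pi.single 1 1) (Pi.single 0 1), det2]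
    ring
  have hlam0 : f₁ (Pi.single 0 1) (Pi.single 1 1) ≠ 0 := by
    intro h0
    obtain ⟨x, hx⟩ := (h₁.nondegenerate (Pi.single 0 1) (by simp)).2
    exact hx (by rw [hlam, h0, zero_mul])
  set lam := f₁ (Pi.single 0 1) (Pi.single 1 1) with hlamdef
  set J := Geo.gramMatrix (det2 (F := F)) with hJ
  let T : (Fin 3 → Fin 2) → (ι → F) := fun k => pureVec e P (Pi.single (k 0) 1) (w (k 1) (k 2))
  have hTT : ∀ k k', f (T k) (T k') = c * lam * ∏ i, J (k i) (k' i) := by
    intro k k'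
    show f (pureVec e P _ _) (pureVec e P _ _) = _
    rw [hform, hlam, hw, Fin.prod_univ_three, hJ]
    simp only [Geo.gramMatrix]
    ring
  let e' : ι ≃ (Fin 3 → Fin 2) :=
    e.trans (((Equiv.refl (Fin 2)).prodCongr (finFunctionFinEquiv (m := 2) (n := 2)).symm).trans
      (Fin.consEquiv fun _ : Fin 3 => Fin 2))
  have hcard : Fintype.card (Fin 3 → Fin 2) = Module.finrank F (ι → F) := by
    rw [Module.finrank_fintype_fun_eq_card, Fintype.card_congr e, Fintype.card_fun, Fintype.card_prod,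
      Fintype.card_fin, Fintype.card_fin, Fintype.card_fin]
    norm_num
  have hJ1 : ∀ a : Fin 2, J a (1 - a) ≠ 0 ∧ ∀ a', a' ≠ a → J a' (1 - a) = 0 := by
    intro a
    have hJ0 : ∀ a c : Fin 2, J a c = ![![(0 : F), 1], ![-1, 0]] a c := fun a c => by
      rw [hJ]
      fin_cases a <;> fin_cases c <;> simp [Geo.gramMatrix, det2]
    refine ⟨?_, fun a' ha' => ?_⟩
    · rw [hJ0]
      fin_cases a <;> simp
    · rw [hJ0]
      fin_cases a <;> fin_cases a' <;> simp at ha' ⊢
  have hli : LinearIndependent F T := by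
    refine linearIndependent_of_dual T (fun k => MaxCl.flin hf.bilinear (T fun i => 1 - k i)) ?_ ?_
    · intro k k' hne
      show f (T k) (T fun i => 1 - k' i) = 0
      refine (hTT k (fun i => 1 - k' i)).trans ?_
      obtain ⟨i, hi⟩ := Function.ne_iff.1 hne
      rw [Finset.prod_eq_zero (Finset.mem_univ i) ((hJ1 (k' i)).2 _ hi), mul_zero]
    · intro k
      show f (T k) (T fun i => 1 - k i) ≠ 0
      refine fun h0 => ?_
      refine (?_ : _ ≠ (0 : F)) ((hTT k (fun i => 1 - k i)).symm.trans h0)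
      exact mul_ne_zero (mul_ne_zero hc hlam0) (Finset.prod_ne_zero_iff.2 fun i _ => (hJ1 (k i)).1)
  let b : Module.Basis (Fin 3 → Fin 2) F (ι → F) := basisOfLinearIndependentOfCardEqFinrank hli hcard
  have hb : ∀ k, b k = T k := fun k => by simp [b]
  let cb := b.reindex e'.symm
  let P' : GL ι F :=
    ⟨LinearMap.toMatrix' cb.equivFun.symm.toLinearMap, LinearMap.toMatrix' cb.equivFun.toLinearMap,
      by rw [← LinearMap.toMatrix'_comp]; simp, by rw [← LinearMap.toMatrix'_comp]; simp⟩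
  have hP' : ∀ v : ι → F, (P' : Matrix ι ι F) *ᵥ v = ∑ i, v i • T (e' i) := fun v => by
    show LinearMap.toMatrix' cb.equivFun.symm.toLinearMap *ᵥ v = _
    rw [LinearMap.toMatrix'_mulVec, LinearEquiv.coe_coe, Module.Basis.equivFun_symm_apply]
    simp [cb, hb]
  refine ⟨e', P', ⟨c * lam, mul_ne_zero hc hlam0, fun x y => ?_⟩, ?_⟩
  · rw [hP', hP']
    show MaxCl.toBil hf.bilinear _ _ = _
    simp only [map_sum, map_smul, LinearMap.sum_apply, LinearMap.smul_apply, smul_eq_mul,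
      MaxCl.toBil_apply, hTT, Function.comp_apply, id_eq]
    simp only [Finset.mul_sum]
    rw [Finset.sum_comm]
    refine (Eq.trans (Finset.sum_congr rfl fun a _ =>
        e'.sum_comp fun b' => y b' * (x (e' a) * (c * lam * ∏ i, J (e' a i) (b' i))))
      (e'.sum_comp fun a => ∑ b', y b' * (x a * (c * lam * ∏ i, J (a i) (b' i))))).trans ?_
    refine Finset.sum_congr rfl fun a _ => Finset.sum_congr rfl fun b' _ => ?_
    ring
  rintro g ⟨hg, hgf⟩
  obtain ⟨a, bb, hab⟩ := exists_factors hg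
  obtain ⟨l, hl0, hl⟩ := exists_multiplier h₁ h₂.bilinear h₂.nondegenerate h hgf hab
  obtain ⟨A, B, τ, hτ⟩ := exists_frame_factors h2 h₂ hw hl0 hl
  -- the element of the wreath subgroup
  let σ : Equiv.Perm (Fin 3) := if τ = 1 then 1 else Equiv.swap 1 2
  let s : GL (Fin 3 → Fin 2) F := pureGL ![a, A, B] * permGL σ
  have hs : s ∈ Geo.tensorWreathStandard 2 3 F :=
    Subgroup.mul_mem _ (pureGL_mem _) (Subgroup.subset_closure (Or.inr ⟨σ, fun x y => rfl⟩))
  refine ⟨Geo.glReindex e'.symm s, ⟨s, hs, rfl⟩, ?_⟩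
  show P' * Geo.glReindex e'.symm s * P'⁻¹ = g
  rw [← coordGL_eq]
  refine Units.ext (eq_of_mulVec_basis b fun k => ?_)
  rw [hb, coordGL_val, coordEquiv_apply]
  have hPk : (P' : Matrix ι ι F) *ᵥ Pi.single (e'.symm k) 1 = T k := by
    rw [hP', Finset.sum_eq_single (e'.symm k) (fun j _ hj => by rw [Pi.single_eq_of_ne hj, zero_smul])
      (fun hn => absurd (Finset.mem_univ _) hn), Pi.single_eq_same, one_smul, Equiv.apply_symm_apply]
  rw [← hPk, ← Matrix.mulVec_mulVec, inv_mulVec, ← Matrix.mulVec_mulVec, hP', hPk]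
  show _ = (g : Matrix ι ι F) *ᵥ pureVec e P (Pi.single (k 0) 1) (w (k 1) (k 2))
  rw [hab, hτ]
  -- the entries of the wreath element
  have hent : ∀ z, (s : Matrix (Fin 3 → Fin 2) (Fin 3 → Fin 2) F) z k =
      (a : Matrix _ _ F) (z 0) (k 0) * ((A : Matrix _ _ F) (z 1) (![k 1, k 2] (τ 0)) *
        (B : Matrix _ _ F) (z 2) (![k 1, k 2] (τ 1))) := by
    intro z
    have hτc : τ = 1 ∨ τ = Equiv.swap 0 1 := by clear * - τ; revert τ; decide
    have hsw : Equiv.swap (0 : Fin 2) 1 ≠ 1 := by decide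
    show ∑ y, pureMat _ z y * (Matrix.of fun x y => if y = x ∘ σ then (1 : F) else 0) y k = _
    have hk : ∀ y : Fin 3 → Fin 2, k = y ∘ σ ↔ y = k ∘ σ.symm := fun y => by
      constructor <;> rintro rfl <;> funext j <;> simp
    simp only [Matrix.of_apply, hk, mul_ite, mul_one, mul_zero, Finset.sum_ite_eq', Finset.mem_univ, if_true,
      pureMat_apply, Fin.prod_univ_three]
    rcases hτc with rfl | rfl <;> simp [σ, hsw, Matrix.GeneralLinearGroup.coe_mul, pureGL, mul_assoc,
      Equiv.swap_apply_of_ne_of_ne, Equiv.Perm.one_def]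
  -- expand both sides
  have hlin : ∀ (x : Fin 2 → F) (y y' : Fin 2 → F),
      pureVec e P x (frameVec w y y') = ∑ z : Fin 3 → Fin 2, (x (z 0) * (y (z 1) * y' (z 2))) • T z := by
    intro x y y'
    let Bp : (Fin 2 → F) →ₗ[F] (Fin 4 → F) →ₗ[F] (ι → F) := LinearMap.mk₂ F (pureVec e P)
      (fun x x' y => by simp only [pureVec, ← Matrix.mulVec_add]; congr 1; funext i; simp [add_mul])
      (fun r x y => by simp only [pureVec, ← Matrix.mulVec_smul]; congr 1; funext i; simp [mul_assoc])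
      (fun x y y' => by simp only [pureVec, ← Matrix.mulVec_add]; congr 1; funext i; simp [mul_add])
      (fun r x y => by simp only [pureVec, ← Matrix.mulVec_smul]; congr 1; funext i; simp [mul_left_comm])
    show Bp x (frameVec w y y') = ∑ z : Fin 3 → Fin 2, (x (z 0) * (y (z 1) * y' (z 2))) • Bp (Pi.single (z 0) 1) (w (z 1) (z 2))
    conv_lhs => rw [pi_eq_sum_univ' x]
    rw [← (Fin.consEquiv fun _ : Fin 3 => Fin 2).sum_comp, Fintype.sum_prod_type]
    simp only [map_sum, map_smul, LinearMap.sum_apply, LinearMap.smul_apply]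
    refine Finset.sum_congr rfl fun a _ => ?_
    simp only [frameVec, map_sum, map_smul, Finset.smul_sum, smul_smul]
    rw [← (Fin.consEquiv fun _ : Fin 2 => Fin 2).sum_comp, Fintype.sum_prod_type]
    refine Finset.sum_congr rfl fun a' _ => ?_
    rw [← (Fin.consEquiv fun _ : Fin 1 => Fin 2).sum_comp, Fintype.sum_prod_type]
    refine Finset.sum_congr rfl fun b' _ => ?_
    rw [Fintype.sum_unique]
    show _ = (x a * (y a' * y' b')) • Bp (Pi.single a 1) (w a' b')
    rfl
  rw [hlin]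
  have hsum : ∀ G : (Fin 3 → Fin 2) → (ι → F), ∑ i, G (e' i) = ∑ z, G z := fun G => e'.sum_comp G
  refine Eq.trans (Finset.sum_congr rfl fun i _ => ?_) (hsum fun z => ((( a : Matrix _ _ F) *ᵥ Pi.single (k 0) 1) (z 0) *
    (((A : Matrix _ _ F) *ᵥ Pi.single (![k 1, k 2] (τ 0)) 1) (z 1) *
      ((B : Matrix _ _ F) *ᵥ Pi.single (![k 1, k 2] (τ 1)) 1) (z 2))) • T z)
  congr 1
  simp only [Matrix.mulVec_single_one, Matrix.col_apply, Matrix.submatrix_apply, Equiv.apply_symm_apply]
  exact hent _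

end Cfsg.Agent.Aschbacher.SpExplicit
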