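import Cfsg.Agent.Lib.Aschbacher.FormSymplectic
import Cfsg.Agent.Lib.Aschbacher.SpExplicit.BinaryPlanes
import Cfsg.Agent.Lib.Aschbacher.SpExplicit.TensorThree
import Cfsg.Agent.Lib.Aschbacher.SpExplicit.TensorPlus
import Cfsg.Agent.Lib.Aschbacher.SpExplicit.CubeThree

/-!
The maximal subgroups of the symplectic groups in dimensions six to fourteen, with the numerical conditions.
-/

set_option autoImplicit false

namespace Cfsg.Agent.Aschbacher.SpExplicit

open Matrix
open scoped MatrixGroups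

variable {ι : Type} [Fintype ι] [DecidableEq ι] {F : Type*} [Field F] [Fintype F]
  {f : (ι → F) → (ι → F) → F} {H : Subgroup (GL ι F)}

/-- The possible maximal subgroups, each given with the equation. -/
inductive SpCase (f : (ι → F) → (ι → F) → F) (H : Subgroup (GL ι F)) : Prop
  | totallySingular (W : Submodule F (ι → F)) (h0 : W ≠ ⊥) (hts : Geo.IsTotallySingularFor f W)
      (heq : H = Geo.subspaceStabilizer W ⊓ isom f)
  | nondegenerate (W : Submodule F (ι → F)) (h0 : W ≠ ⊥) (hnd : Geo.IsNondegenerateOn f W)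
      (hdim : 2 * Module.finrank F W < Fintype.card ι) (heq : H = Geo.subspaceStabilizer W ⊓ isom f)
  | decomposition (t k : ℕ) (D : Fin t → Submodule F (ι → F)) (hD : Geo.IsNondegenerateMDecomposition f k D)
      (ht : 2 ≤ t) (hk : Even k) (hk0 : 0 < k) (htk : Fintype.card ι = t * k)
      (hq : k = 2 → 3 ≤ Fintype.card F) (heq : H = Geo.decompositionStabilizer D ⊓ isom f)
  | pair (k : ℕ) (D : Fin 2 → Submodule F (ι → F)) (hodd : Odd (Fintype.card F)) (hk : 2 * k = Fintype.card ι)
      (hD : Geo.IsMDecomposition k D) (hts : ∀ i, Geo.IsTotallySingularFor f (D i))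
      (heq : H = Geo.decompositionStabilizer D ⊓ isom f)
  | symplecticField (r : ℕ) (K : Subalgebra F (Matrix ι ι F)) (hr : r.Prime) (hdvd : 2 * r ∣ Fintype.card ι)
      (hK : Geo.IsFieldSubalgebra r K) (hsa : Geo.IsSelfAdjointFor f K) (halt : ∀ k ∈ K, ∀ v, f (k *ᵥ v) v = 0)
      (heq : H = Geo.subalgebraNormalizer K ⊓ isom f)
  | unitaryField (K : Subalgebra F (Matrix ι ι F)) (hodd : Odd (Fintype.card F))
      (hK : Geo.IsFieldSubalgebra 2 K) (hcl : Geo.IsAdjointClosedFor f K) (hns : ¬ Geo.IsSelfAdjointFor f K)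
      (heq : H = Geo.subalgebraNormalizer K ⊓ isom f)
  | tensor (n₁ n₂ : ℕ) (e : ι ≃ Fin n₁ × Fin n₂) (P : GL ι F) (f₁ : (Fin n₁ → F) → (Fin n₁ → F) → F)
      (f₂ : (Fin n₂ → F) → (Fin n₂ → F) → F) (hodd : Odd (Fintype.card F)) (hev : Even n₁) (h3 : 3 ≤ n₂)
      (hmul : Fintype.card ι = n₁ * n₂) (hq : n₂ = 3 → 5 ≤ Fintype.card F)
      (hplus : n₁ = 2 → n₂ = 4 → ¬ Geo.IsPlusTypeOn (fun v : Fin n₂ → F => f₂ v v) ⊤)
      (hf₁ : Geo.IsSymplecticForm f₁) (hf₂ : Geo.IsSymmetricForm f₂)
      (hstr : Geo.IsTensorFormStructure id f f₁ f₂ e P)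
      (heq : H = Geo.tensorProductSubgroup n₁ n₂ e P ⊓ isom f)
  | subfield (F₀ : Subfield F) (r : ℕ) (P : GL ι F) (ζ : F) (hr : r.Prime)
      (hcard : Fintype.card F = Nat.card F₀ ^ r) (hζ : ζ ≠ 0)
      (hrat : Geo.IsFormRationalStructure f F₀ ζ P) (heq : H = Geo.subfieldSubgroup F₀ P ⊓ isom f)
  | symplecticType (R : Subgroup (GL ι F)) (p k : ℕ) (hdim : Fintype.card ι = 2 ^ k)
      (hR : Geo.IsSymplecticTypeGroup 2 R) (habs : Geo.ActsAbsolutelyIrreducibly (Geo.matrixSet R))
      (hsim : R ≤ Geo.similarityGroup f) (hp : p.Prime) (hodd : Odd p) (hF : Fintype.card F = p)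
      (hcard : Nat.card R = 2 ^ (1 + 2 * k)) (hcentre : Nat.card (Subgroup.center R) = 2)
      (hminus : Geo.IsOfMinusType k R) (heq : H = Geo.subgroupNormalizer R ⊓ isom f)
  | orthogonal (Q : (ι → F) → F) (heven : ¬ Odd (Fintype.card F)) (hQ : Geo.IsNondegenerateQuadraticForm Q)
      (hpol : ∀ u v, QuadraticMap.polar Q u v = f u v) (heq : H = Geo.quadSimilarityGroup Q ⊓ isom f)
  | tensorCube (e : ι ≃ (Fin 3 → Fin 2)) (P : GL ι F) (f₁ : (Fin 2 → F) → (Fin 2 → F) → F)
      (hodd : Odd (Fintype.card F)) (hq : 5 ≤ Fintype.card F)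
      (hf₁ : Geo.IsSymplecticForm f₁) (hstr : Geo.IsTensorPowerFormStructure id f f₁ e P)
      (heq : H = Geo.tensorWreathSubgroup 2 3 e P ⊓ isom f)
  | residual (hres : Geo.InSymplecticResidualClass H)

theorem three_le_of_odd (hodd : Odd (Fintype.card F)) : 3 ≤ Fintype.card F := by
  obtain ⟨c, hc⟩ := hodd
  have := Fintype.one_lt_card (α := F)
  omega

theorem five_le_of_odd (hodd : Odd (Fintype.card F)) (h3 : Fintype.card F ≠ 3) : 5 ≤ Fintype.card F := by
  obtain ⟨c, hc⟩ := hodd
  have := Fintype.one_lt_card (α := F)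
  omega

theorem SpCase.of_plusTensor (hf : Geo.IsSymplecticForm f) (hH : Geo.IsMaximalIn (isom f) H)
    (hodd : Odd (Fintype.card F)) {f₁ : (Fin 2 → F) → (Fin 2 → F) → F} {f₂ : (Fin 4 → F) → (Fin 4 → F) → F}
    (h₁ : Geo.IsSymplecticForm f₁) (h₂ : Geo.IsSymmetricForm f₂)
    (hplus : Geo.IsPlusTypeOn (fun v : Fin 4 → F => f₂ v v) ⊤) {e : ι ≃ Fin 2 × Fin 4} {P : GL ι F}
    (h : Geo.IsTensorFormStructure id f f₁ f₂ e P) (hle : H ≤ Geo.tensorProductSubgroup 2 4 e P) :
    SpCase f H := by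
  classical
  have h2 : (2 : F) ≠ 0 := fun h0 => by
    obtain ⟨c, hc⟩ := hodd
    have h' := Nat.cast_card_eq_zero F
    rw [hc, Nat.cast_add, Nat.cast_mul, Nat.cast_ofNat, h0, zero_mul, zero_add, Nat.cast_one] at h'
    exact one_ne_zero h'
  have hι : Fintype.card ι = 8 := by rw [Fintype.card_congr e]; simp
  haveI : Nonempty ι := Fintype.card_pos_iff.1 (by omega)
  obtain ⟨e', P', hstr, hsub⟩ := exists_cube_of_tensor_plus h2 hf h₁ h₂ hplus h
  have hle' : H ≤ Geo.tensorWreathSubgroup 2 3 e' P' := (le_inf hle hH.1.le).trans hsub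
  by_cases h3 : Fintype.card F = 3
  · obtain ⟨R, hR, habs, hsim, hcard, hcentre, hminus, hnorm⟩ :=
      exists_normalizer_of_cube hf h3 det2_symplectic hstr
    refine .symplecticType R 3 3 (by rw [hι]; rfl) hR habs hsim Nat.prime_three (by decide) h3
      (by rw [hcard]; rfl) hcentre hminus (eq_inf_of_maximal hH (hle'.trans hnorm) ?_)
    exact not_le_normalizer hf (by omega) habs (symplecticType_not_scalar (by omega) habs)
      (symplecticType_spec hR habs hcentre).1
  · exact .tensorCube e' P' det2 hodd (five_le_of_odd hodd h3) det2_symplectic hstr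
      (eq_inf_of_maximal hH hle' (not_le_tensorWreath hf (five_le_of_odd hodd h3) e' P'))

theorem SpCase.of_decomposition (hf : Geo.IsSymplecticForm f) (hH : Geo.IsMaximalIn (isom f) H)
    (h4 : 4 ≤ Fintype.card ι) {t k : ℕ} {D : Fin t → Submodule F (ι → F)}
    (hD : Geo.IsNondegenerateMDecomposition f k D) (hle : H ≤ Geo.decompositionStabilizer D) :
    SpCase f H := by
  have hev := even_of_nondegenerate_decomposition hf hD
  have hk0 := hD.decomp.pos
  by_cases hq : k = 2 ∧ Fintype.card F = 2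
  · obtain ⟨rfl, h2⟩ := hq
    obtain ⟨Q, hQ, hpol, hsub⟩ := exists_quad_of_planes hf h2 hD
    have h20 : (2 : F) = 0 := by
      have h' := Nat.cast_card_eq_zero F
      rwa [h2, Nat.cast_ofNat] at h'
    refine .orthogonal Q (by rw [h2]; decide) hQ hpol
      (eq_inf_of_maximal hH ((le_inf hle hH.1.le).trans hsub) (not_le_quadSimilarity hf h4 h20 hQ hpol))
  · refine .decomposition t k D hD hD.decomp.two_le hev hk0 (card_eq_of_isMDecomposition hD.decomp) (fun hk => ?_)
      (eq_inf_of_maximal hH hle (not_le_decomposition hf hD.decomp (by obtain ⟨c, hc⟩ := hev; omega)))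
    have h2 : Fintype.card F ≠ 2 := fun h => hq ⟨hk, h⟩
    have := Fintype.one_lt_card (α := F)
    omega

/-- The maximal subgroups of a symplectic group in dimension six to fourteen. -/
theorem sp_maximal_cases (hf : Geo.IsSymplecticForm f) (hH : Geo.IsMaximalIn (isom f) H)
    (h6 : 6 ≤ Fintype.card ι) (h14 : Fintype.card ι ≤ 14) : SpCase f H := by
  classical
  haveI : Nonempty ι := Fintype.card_pos_iff.1 (by omega)
  cases symp_outcome (by omega) hf hH.1.le with
  | totallySingular W h0 hts hle =>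
    refine .totallySingular W h0 hts (eq_inf_of_maximal hH hle (not_le_subspace hf h0 fun htop => ?_))
    obtain ⟨i⟩ := ‹Nonempty ι›
    obtain ⟨x, hx⟩ := (hf.nondegenerate (Pi.single i 1) (by simp)).2
    exact hx (hts _ (htop ▸ Submodule.mem_top) x (htop ▸ Submodule.mem_top))
  | nondegenerate W h0 hnd hdim hle =>
    refine .nondegenerate W h0 hnd hdim (eq_inf_of_maximal hH hle (not_le_subspace hf h0 fun htop => ?_))
    rw [htop, finrank_top, Module.finrank_fintype_fun_eq_card] at hdim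
    omega
  | decomposition t k D hD hle => exact .of_decomposition hf hH (by omega) hD hle
  | pair k D hodd hk hD hts hle =>
    exact .pair k D hodd hk hD hts (eq_inf_of_maximal hH hle (not_le_decomposition hf hD (by omega)))
  | symplecticField r K hr hK hsa halt hle =>
    exact .symplecticField r K hr (two_mul_dvd_of_selfAdjoint hf hK hsa halt) hK hsa halt
      (eq_inf_of_maximal hH hle (not_le_subalgebraNormalizer hf (by omega) hr.two_le hK))
  | unitaryField K hodd hK hcl hns hle =>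
    exact .unitaryField K hodd hK hcl hns
      (eq_inf_of_maximal hH hle (not_le_subalgebraNormalizer hf (by omega) le_rfl hK))
  | tensor n₁ n₂ e P f₁ f₂ hodd h3 hf₁ hf₂ hstr hle =>
    have hev := even_card hf₁
    have hmul : Fintype.card ι = n₁ * n₂ := by rw [Fintype.card_congr e]; simp
    have hn0 : 0 < n₁ := Nat.pos_of_ne_zero fun h => by subst h; omega
    by_cases hq : n₂ = 3 ∧ Fintype.card F = 3
    · obtain ⟨rfl, hq3⟩ := hq
      obtain ⟨D, hD, hsub⟩ := exists_decomposition_of_tensor_three hf hq3 hn0 hf₁ hf₂ hstr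
      exact .of_decomposition hf hH (by omega) hD ((le_inf hle hH.1.le).trans hsub)
    by_cases hplus : n₁ = 2 ∧ n₂ = 4 ∧ Geo.IsPlusTypeOn (fun v : Fin n₂ → F => f₂ v v) ⊤
    · obtain ⟨rfl, rfl, hp⟩ := hplus
      exact .of_plusTensor hf hH hodd hf₁ hf₂ hp hstr hle
    refine .tensor n₁ n₂ e P f₁ f₂ hodd hev h3 hmul (fun hn => five_le_of_odd hodd fun h => hq ⟨hn, h⟩)
      (fun h₁ h₂ hp => hplus ⟨h₁, h₂, hp⟩) hf₁ hf₂ hstr
      (eq_inf_of_maximal hH hle (not_le_tensorProductSubgroup hf ?_ (by omega) e P))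
    obtain ⟨c, hc⟩ := hev
    omega
  | subfield F₀ r P ζ hr hcard hζ hrat hle =>
    refine .subfield F₀ r P ζ hr hcard hζ hrat
      (eq_inf_of_maximal hH hle (not_le_subfieldSubgroup hf (fun htop => ?_) P))
    have h1 : Nat.card F₀ = Fintype.card F := by
      rw [← Nat.card_eq_fintype_card]
      exact Nat.card_congr (Equiv.subtypeUnivEquiv fun x => by simp [htop])
    rw [h1] at hcard
    exact absurd hcard (ne_of_lt (by
      conv_lhs => rw [← pow_one (Fintype.card F)]
      exact Nat.pow_lt_pow_right Fintype.one_lt_card hr.one_lt))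
  | symplecticType R p k hdim hR habs hsim hp hodd hF hcard hcentre hminus hle =>
    exact .symplecticType R p k hdim hR habs hsim hp hodd hF hcard hcentre hminus
      (eq_inf_of_maximal hH hle (not_le_normalizer hf (by omega) habs (symplecticType_not_scalar (by omega) habs)
        (symplecticType_spec hR habs hcentre).1))
  | orthogonal Q heven hQ hpol hle =>
    exact .orthogonal Q heven hQ hpol
      (eq_inf_of_maximal hH hle (not_le_quadSimilarity hf (by omega) (two_eq_zero_of_not_odd heven) hQ hpol))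
  | tensorPower k t e P f₁ hodd ht ht3 hex hf₁ hstr hle =>
    obtain ⟨rfl, rfl⟩ : k = 2 ∧ t = 3 := by
      have hkt : k ^ t = Fintype.card ι := by rw [Fintype.card_congr e]; simp
      obtain ⟨c, hc⟩ := even_card hf₁
      have hk2 : 2 ≤ k := by
        by_contra hlt
        rw [show k = 0 by omega, zero_pow (by omega)] at hkt
        omega
      have hk3 : k ≤ 2 := by
        by_contra hlt
        have h1 : 4 ^ 3 ≤ k ^ t :=
          le_trans (Nat.pow_le_pow_left (show 4 ≤ k by omega) 3) (Nat.pow_le_pow_right (by omega) ht3)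
        omega
      refine ⟨by omega, ?_⟩
      by_contra hne
      obtain ⟨d, hd⟩ := ht
      have h1 : 2 ^ 5 ≤ k ^ t :=
        le_trans (Nat.pow_le_pow_left hk2 5) (Nat.pow_le_pow_right (by omega) (show 5 ≤ t by omega))
      omega
    have h5 : 5 ≤ Fintype.card F := five_le_of_odd hodd fun h => hex ⟨h, rfl⟩
    exact .tensorCube e P f₁ hodd h5 hf₁ hstr (eq_inf_of_maximal hH hle (not_le_tensorWreath hf h5 e P))
  | residual hres => exact .residual hres

end Cfsg.Agent.Aschbacher.SpExplicit
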