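import Cfsg.Agent.Lib.Aschbacher.NonContainment
import Cfsg.Agent.Lib.Aschbacher.UnitarySubfield
import Cfsg.Agent.Lib.MaxCl.Symplectic

/-!
The isometry group of a symplectic form lies in no member of the geometric classes.
-/

set_option autoImplicit false

namespace Cfsg.Agent.Aschbacher.SpExplicit

open Matrix
open scoped MatrixGroups Kronecker

variable {ι : Type} [Fintype ι] [DecidableEq ι] {F : Type*} [Field F]
  {f : (ι → F) → (ι → F) → F}

/-- The isometry group. -/
abbrev isom (f : (ι → F) → (ι → F) → F) : Subgroup (GL ι F) := preserving (glToMat ι F) f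

theorem zero_left (hf : Geo.IsSymplecticForm f) (v : ι → F) : f 0 v = 0 := MaxCl.f_zero_left hf v

theorem zero_right (hf : Geo.IsSymplecticForm f) (v : ι → F) : f v 0 = 0 := MaxCl.f_zero_right hf v

/-- Symplectic transvections. -/
theorem exists_transv (hf : Geo.IsSymplecticForm f) (v : ι → F) (a : F) :
    ∃ g : GL ι F, g ∈ isom f ∧ ∀ u, (g : Matrix ι ι F) *ᵥ u = u + (a * f u v) • v :=
  ⟨MaxCl.stv hf v a, MaxCl.stv_mem hf v a, fun u => by rw [← MaxCl.act_apply, MaxCl.act_stv]⟩

/-- A property of vectors preserved by all isometries holds for all non-zero vectors or none. -/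
theorem forall_of_invariant (hf : Geo.IsSymplecticForm f) {P : (ι → F) → Prop}
    (hP : ∀ g ∈ isom f, ∀ v, P v → P ((g : Matrix ι ι F) *ᵥ v)) {v : ι → F} (hv : v ≠ 0) (h0 : P v)
    {w : ι → F} (hw : w ≠ 0) : P w :=
  MaxCl.full_all_of_one hf (M := isom f) (fun u c => MaxCl.stv_mem hf u c)
    (fun g hg _ v h => by rw [MaxCl.act_apply]; exact hP g hg v h) hv h0 hw

/-- A matrix with every vector an eigenvector is scalar. -/
theorem scalar_of_eigen {x : Matrix ι ι F} (h : ∀ u : ι → F, u ≠ 0 → x *ᵥ u ∈ Submodule.span F {u}) :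
    ∃ c : F, x = c • 1 := by
  rcases isEmpty_or_nonempty ι with he | ⟨⟨i₀⟩⟩
  · exact ⟨0, Matrix.ext fun i => he.elim i⟩
  choose c hc using fun i => Submodule.mem_span_singleton.1
    (h (Pi.single i 1) (fun h => by simpa using congrFun h i))
  refine ⟨c i₀, Matrix.ext fun j i => ?_⟩
  have hji := congrFun (hc i) j
  simp only [Pi.smul_apply, smul_eq_mul, Matrix.mulVec_single_one, Matrix.col_apply] at hji
  rw [← hji, Matrix.smul_apply, Matrix.one_apply, smul_eq_mul]
  by_cases hij : j = i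
  · subst hij
    simp only [Pi.single_eq_same, mul_one, if_true]
    by_cases hj : j = i₀
    · rw [hj]
    have hne : (Pi.single j (1 : F) : ι → F) + Pi.single i₀ 1 ≠ 0 := fun h => by
      simpa [hj] using congrFun h j
    obtain ⟨d, hd⟩ := Submodule.mem_span_singleton.1 (h _ hne)
    rw [Matrix.mulVec_add, ← hc j, ← hc i₀] at hd
    have h1 := congrFun hd j
    have h2 := congrFun hd i₀
    simp [hj, Ne.symm hj] at h1 h2
    exact h1.symm.trans h2
  · simp [hij]

/-- A set of matrices with a small common invariant subspace, stable under conjugation by the isometry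
group, is scalar. -/
theorem scalar_of_invariant (hf : Geo.IsSymplecticForm f) (S : Set (Matrix ι ι F)) {W : Submodule F (ι → F)}
    (hW0 : W ≠ ⊥) (hW : Module.finrank F W + 2 ≤ Fintype.card ι) (hS : ∀ x ∈ S, ∀ w ∈ W, x *ᵥ w ∈ W)
    (hconj : ∀ g ∈ isom f, ∀ x ∈ S, (g : Matrix ι ι F) * x * ((g⁻¹ : GL ι F) : Matrix ι ι F) ∈ S) :
    ∀ x ∈ S, ∃ c : F, x = c • 1 := by
  classical
  have htr : ∀ g ∈ isom f, ∀ x ∈ S, ∀ u, (g : Matrix ι ι F) *ᵥ u ∈ W →
      (g : Matrix ι ι F) *ᵥ (x *ᵥ u) ∈ W := by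
    intro g hg x hx u hu
    have h := hS _ (hconj g hg x hx) _ hu
    rwa [← Matrix.mulVec_mulVec, ← Matrix.mulVec_mulVec, inv_mulVec] at h
  obtain ⟨v₀, hv₀, hv₀0⟩ := (Submodule.ne_bot_iff W).1 hW0
  -- vectors of `W` are eigenvectors
  have heigW : ∀ u ∈ W, u ≠ 0 → ∀ x ∈ S, x *ᵥ u ∈ Submodule.span F {u} := by
    intro u hu hu0 x hx
    by_contra hne
    have key : ∀ w, f u w = 0 → w ∈ W ∨ f (x *ᵥ u) w = 0 := by
      intro w hw
      obtain ⟨g, hg, hgu⟩ := exists_transv hf w 1
      have h1 := htr g hg x hx u (by rw [hgu, hw, mul_zero, zero_smul, add_zero]; exact hu)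
      rw [hgu, one_mul] at h1
      have h2 := W.sub_mem h1 (hS x hx u hu)
      rw [add_sub_cancel_left] at h2
      exact or_iff_not_imp_right.2 fun h0 => (W.smul_mem_iff h0).1 h2
    let L : (ι → F) →ₗ[F] F := MaxCl.toBil hf.bilinear u
    let M : (ι → F) →ₗ[F] F := MaxCl.toBil hf.bilinear (x *ᵥ u)
    have hU : LinearMap.ker L ≤ W ∨ LinearMap.ker L ≤ LinearMap.ker M := by
      by_contra hcon
      push Not at hcon
      obtain ⟨a, ha, haW⟩ := SetLike.not_le_iff_exists.1 hcon.1
      obtain ⟨b, hb, hbM⟩ := SetLike.not_le_iff_exists.1 hcon.2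
      have haM : f (x *ᵥ u) a = 0 := (key a ha).resolve_left haW
      have hbW : b ∈ W := (key b hb).resolve_right hbM
      rcases key (a + b) ((LinearMap.ker L).add_mem ha hb) with h | h
      · exact haW ((Submodule.add_mem_iff_left W hbW).1 h)
      · exact hbM (by
          show f (x *ᵥ u) b = 0
          rwa [hf.bilinear.add_right, haM, zero_add] at h)
    rcases hU with h | h
    · have h1 := LinearMap.finrank_range_add_finrank_ker L
      have h2 := Submodule.finrank_le (LinearMap.range L)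
      have h3 := Submodule.finrank_mono h
      rw [Module.finrank_fintype_fun_eq_card] at h1
      rw [Module.finrank_self] at h2
      omega
    · obtain ⟨d, hd⟩ : ∃ d : F, M = d • L := by
        obtain ⟨z, hz⟩ := (hf.nondegenerate u hu0).2
        refine ⟨M z / L z, LinearMap.ext fun y => ?_⟩
        have hmem : y - (L y / L z) • z ∈ LinearMap.ker L := by
          show L (y - (L y / L z) • z) = 0
          rw [map_sub, map_smul, smul_eq_mul, div_mul_cancel₀ _ (show L z ≠ 0 from hz), sub_self]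
        have h' : M (y - (L y / L z) • z) = 0 := h hmem
        rw [map_sub, map_smul, smul_eq_mul, sub_eq_zero] at h'
        rw [LinearMap.smul_apply, smul_eq_mul, h']
        have hz' : L z ≠ 0 := hz
        field_simp
      refine hne (Submodule.mem_span_singleton.2 ⟨d, ?_⟩)
      by_contra hdne
      obtain ⟨y, hy⟩ := (hf.nondegenerate _ (sub_ne_zero.2 hdne)).2
      apply hy
      show MaxCl.toBil hf.bilinear (d • u - x *ᵥ u) y = 0
      rw [map_sub, map_smul, LinearMap.sub_apply, LinearMap.smul_apply]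
      show d • L y - M y = 0
      rw [hd, LinearMap.smul_apply, sub_self]
  intro x hx
  refine scalar_of_eigen fun u hu => ?_
  refine (forall_of_invariant hf (P := fun u => ∀ x ∈ S, x *ᵥ u ∈ Submodule.span F {u}) ?_ hv₀0
    (heigW v₀ hv₀ hv₀0) hu) x hx
  intro g hg u h y hy
  have hy' := hconj g⁻¹ (Subgroup.inv_mem _ hg) y hy
  rw [inv_inv] at hy'
  obtain ⟨d, hd⟩ := Submodule.mem_span_singleton.1 (h _ hy')
  rw [← Matrix.mulVec_mulVec, ← Matrix.mulVec_mulVec] at hd
  refine Submodule.mem_span_singleton.2 ⟨d, ?_⟩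
  rw [← Matrix.mulVec_smul, hd, mulVec_inv]

theorem not_le_subspace (hf : Geo.IsSymplecticForm f) {W : Submodule F (ι → F)} (h0 : W ≠ ⊥)
    (h1 : W ≠ ⊤) : ¬ isom f ≤ Geo.subspaceStabilizer W := by
  intro hle
  obtain ⟨w, hw, hw0⟩ := (Submodule.ne_bot_iff W).1 h0
  refine h1 (eq_top_iff.2 fun v _ => ?_)
  by_cases hv : v = 0
  · rw [hv]; exact W.zero_mem
  exact forall_of_invariant hf (P := fun v => v ∈ W) (fun g hg v h => (hle hg v).1 h) hw0 hw hv

/-- The isometry group permutes the members of no decomposition into subspaces of dimension at least two. -/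
theorem not_le_decomposition (hf : Geo.IsSymplecticForm f) {t m : ℕ} {D : Fin t → Submodule F (ι → F)}
    (hD : Geo.IsMDecomposition m D) (hm : 2 ≤ m) : ¬ isom f ≤ Geo.decompositionStabilizer D := by
  intro hle
  have h2 := hD.two_le
  set i : Fin t := ⟨0, by omega⟩
  set j : Fin t := ⟨1, by omega⟩
  have hij : i ≠ j := by simp [i, j]
  have hne : ∀ k, D k ≠ ⊥ := fun k h => by
    have := hD.finrank_eq k
    rw [h, finrank_bot] at this
    omega
  have hdis : ∀ {k l : Fin t} {v : ι → F}, k ≠ l → v ∈ D k → v ∈ D l → v = 0 := fun {k l v} hkl hk hl =>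
    (Submodule.mem_bot F).1 ((hD.indep.pairwiseDisjoint hkl).eq_bot ▸ ⟨hk, hl⟩)
  obtain ⟨u, hu, hu0⟩ := (Submodule.ne_bot_iff _).1 (hne i)
  -- a vector `x + y` with components in two members and not orthogonal to `u`
  obtain ⟨x, y, k, hki, hx, hy, hy0, hux, hfu⟩ : ∃ (x y : ι → F) (k : Fin t), k ≠ i ∧ x ∈ D i ∧ y ∈ D k ∧
      y ≠ 0 ∧ (∀ a : F, u ≠ a • x) ∧ f u (x + y) ≠ 0 := by
    by_cases hall : ∀ k, k ≠ i → ∀ y ∈ D k, f u y = 0
    · -- `u` is orthogonal to the other members, so not to its own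
      obtain ⟨z, hz, hfz⟩ : ∃ z ∈ D i, f u z ≠ 0 := by
        by_contra hcon
        push Not at hcon
        obtain ⟨z, hz⟩ := (hf.nondegenerate u hu0).2
        refine hz ?_
        have hzt : z ∈ ⨆ k, D k := hD.iSup_eq_top ▸ Submodule.mem_top
        refine Submodule.iSup_induction D (motive := fun z => f u z = 0) hzt (fun k y hy => ?_)
          (zero_right hf u) fun a b ha hb => by rw [hf.bilinear.add_right, ha, hb, add_zero]
        by_cases hk : k = i
        · exact hcon y (hk ▸ hy)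
        · exact hall k hk y hy
      obtain ⟨y, hy, hy0⟩ := (Submodule.ne_bot_iff _).1 (hne j)
      refine ⟨z, y, j, Ne.symm hij, hz, hy, hy0, fun a ha => hfz ?_, ?_⟩
      · rw [ha, hf.bilinear.smul_left, hf.alternating, mul_zero]
      · rw [hf.bilinear.add_right, hall j (Ne.symm hij) y hy, add_zero]; exact hfz
    · push Not at hall
      obtain ⟨k, hk, y, hy, hfy⟩ := hall
      obtain ⟨x, hx, hxu⟩ : ∃ x ∈ D i, x ∉ Submodule.span F {u} := by
        by_contra hcon
        push Not at hcon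
        have := Submodule.finrank_mono (show D i ≤ Submodule.span F {u} from hcon)
        rw [hD.finrank_eq, finrank_span_singleton hu0] at this
        omega
      -- adjust `x` to keep the value non-zero
      by_cases hx' : f u (x + y) = 0
      · refine ⟨0, y, k, hk, (D i).zero_mem, hy, ?_, fun a ha => hu0 (by rw [ha, smul_zero]), by rwa [zero_add]⟩
        rintro rfl
        exact hfy (zero_right hf u)
      refine ⟨x, y, k, hk, hx, hy, ?_, fun a ha => ?_, hx'⟩
      · rintro rfl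
        exact hfy (zero_right hf u)
      · have ha0 : a ≠ 0 := fun h0 => hu0 (by rw [ha, h0, zero_smul])
        exact hxu (Submodule.mem_span_singleton.2 ⟨a⁻¹, by rw [ha, smul_smul, inv_mul_cancel₀ ha0, one_smul]⟩)
  obtain ⟨g, hg, hgu⟩ := exists_transv hf (x + y) 1
  obtain ⟨π, hπ⟩ := hle hg
  have h1 : (g : Matrix ι ι F) *ᵥ u ∈ D (π i) := by
    rw [← hπ i]; exact ⟨u, hu, Matrix.toLin'_apply _ _⟩
  rw [hgu, smul_add, ← add_assoc, one_mul] at h1
  set a := f u (x + y)
  have hxa : u + a • x ∈ D i := (D i).add_mem hu ((D i).smul_mem a hx)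
  have hya : a • y ≠ 0 := smul_ne_zero hfu hy0
  by_cases hi : π i = i
  · rw [hi] at h1
    have h3 : a • y ∈ D i := by simpa using (D i).sub_mem h1 hxa
    exact hya (hdis hki ((D k).smul_mem a hy) h3)
  have hux0 : u + a • x ≠ 0 := fun h => hux (-a) (by rw [neg_smul]; exact eq_neg_of_add_eq_zero_left h)
  by_cases hk : π i = k
  · rw [hk] at h1
    have h3 : u + a • x ∈ D k := by simpa using (D k).sub_mem h1 ((D k).smul_mem a hy)
    exact hux0 (hdis (Ne.symm hki) hxa h3)
  · have h3 : u + a • x + a • y ∈ ⨆ (l) (_ : l ≠ π i), D l :=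
      Submodule.add_mem _ (Submodule.mem_iSup_of_mem i (Submodule.mem_iSup_of_mem (Ne.symm hi) hxa))
        (Submodule.mem_iSup_of_mem k (Submodule.mem_iSup_of_mem (Ne.symm hk) ((D k).smul_mem a hy)))
    have h4 := (hD.indep (π i)).le_bot ⟨h1, h3⟩
    rw [Submodule.mem_bot] at h4
    have h5 : a • y ∈ D i := by rw [eq_neg_of_add_eq_zero_right h4]; exact (D i).neg_mem hxa
    exact hya (hdis hki ((D k).smul_mem a hy) h5)

theorem not_le_subalgebraNormalizer (hf : Geo.IsSymplecticForm f) (h3 : 3 ≤ Fintype.card ι)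
    {r : ℕ} (hr : 2 ≤ r) {K : Subalgebra F (Matrix ι ι F)} (hK : Geo.IsFieldSubalgebra r K) :
    ¬ isom f ≤ Geo.subalgebraNormalizer K := by
  intro hle
  haveI : Nonempty ι := Fintype.card_pos_iff.1 (by omega)
  obtain ⟨k, hk, hkns⟩ : ∃ k ∈ K, ∀ c : F, k ≠ c • (1 : Matrix ι ι F) := by
    by_contra hcon
    push Not at hcon
    have hbot : K = ⊥ := by
      refine eq_bot_iff.2 fun k hk => ?_
      obtain ⟨c, rfl⟩ := hcon k hk
      exact Algebra.mem_bot.2 ⟨c, by rw [Algebra.algebraMap_eq_smul_one]⟩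
    have := hK.finrank_eq
    rw [hbot, Subalgebra.finrank_bot] at this
    omega
  have hinj : ∀ m ∈ K, ∀ u : ι → F, u ≠ 0 → m *ᵥ u = 0 → m = 0 := by
    intro m hm u hu0 hmu
    by_contra h0
    obtain ⟨m', hm', hmm⟩ := hK.inv m hm h0
    have hmm' : m' * m = 1 := by rw [hK.comm _ hm' _ hm, hmm]
    apply hu0
    rw [← Matrix.one_mulVec u, ← hmm', ← Matrix.mulVec_mulVec, hmu, Matrix.mulVec_zero]
  refine absurd (scalar_of_eigen fun v hv => ?_) (fun ⟨c, hc⟩ => hkns c hc)
  obtain ⟨g, hg, hgu⟩ := exists_transv hf v 1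
  have hm : (g : Matrix ι ι F) * k * ((g⁻¹ : GL ι F) : Matrix ι ι F) ∈ K := (hle hg k).1 hk
  obtain ⟨u, ⟨hu1, hu2⟩, hu0⟩ : ∃ u, (f u v = 0 ∧ f (k *ᵥ u) v = 0) ∧ u ≠ 0 := by
    let L : (ι → F) →ₗ[F] F × F :=
      (MaxCl.flin hf.bilinear v).prod ((MaxCl.flin hf.bilinear v).comp (Matrix.toLin' k))
    have hker : LinearMap.ker L ≠ ⊥ := by
      intro h'
      have h1 := LinearMap.finrank_le_finrank_of_injective (LinearMap.ker_eq_bot.1 h')
      rw [Module.finrank_fintype_fun_eq_card, Module.finrank_prod, Module.finrank_self] at h1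
      omega
    obtain ⟨u, hu, hu0⟩ := (Submodule.ne_bot_iff _).1 hker
    have hu' : L u = 0 := hu
    exact ⟨u, ⟨congrArg Prod.fst hu', by simpa [L, MaxCl.flin_apply] using congrArg Prod.snd hu'⟩, hu0⟩
  have hgfix : ((g⁻¹ : GL ι F) : Matrix ι ι F) *ᵥ u = u := by
    conv_lhs => rw [show u = (g : Matrix ι ι F) *ᵥ u by rw [hgu, hu1, mul_zero, zero_smul, add_zero]]
    exact inv_mulVec g u
  have hzero := hinj _ (K.sub_mem hm hk) u hu0 (by
    rw [Matrix.sub_mulVec, ← Matrix.mulVec_mulVec, ← Matrix.mulVec_mulVec, hgfix, hgu, hu2, mul_zero,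
      zero_smul, add_zero, sub_self])
  rw [sub_eq_zero] at hzero
  have h1 : (g : Matrix ι ι F) * k = k * (g : Matrix ι ι F) := by
    conv_rhs => rw [← hzero, mul_assoc _ _ (g : Matrix ι ι F), Units.inv_mul, mul_one]
  obtain ⟨w, hw⟩ := (hf.nondegenerate v hv).1
  have h2 := congrArg (· *ᵥ w) h1
  simp only [← Matrix.mulVec_mulVec] at h2
  rw [hgu, hgu, Matrix.mulVec_add, add_right_inj, Matrix.mulVec_smul, one_mul, one_mul] at h2
  exact Submodule.mem_span_singleton.2 ⟨(f w v)⁻¹ * f (k *ᵥ w) v, by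
    rw [mul_smul, h2, smul_smul, inv_mul_cancel₀ hw, one_smul]⟩

theorem not_le_subfieldSubgroup [Fintype F] [Nonempty ι] (hf : Geo.IsSymplecticForm f) {F₀ : Subfield F}
    (hF₀ : F₀ ≠ ⊤) (P : GL ι F) : ¬ isom f ≤ Geo.subfieldSubgroup F₀ P := by
  classical
  intro hle
  obtain ⟨i₀⟩ := ‹Nonempty ι›
  let v : ι → F := Pi.single i₀ 1
  have hv0 : v ≠ 0 := by simp [v]
  obtain ⟨w, hw⟩ := (hf.nondegenerate v hv0).1
  have hR : ∀ a : F, a ≠ 0 → ∃ R : Matrix ι ι F, (∀ u, R *ᵥ u = (a * f u v) • v) ∧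
      ∀ i j, (((P⁻¹ : GL ι F) : Matrix ι ι F) * R * (P : Matrix ι ι F)) i j ∈ F₀ := by
    intro a ha
    obtain ⟨g, hg, hgu⟩ := exists_transv hf v a
    obtain ⟨s, hs, hsg⟩ := hle hg
    obtain ⟨g₀', hg₀, z, hz, hgz⟩ := Subgroup.mem_sup_of_normal_right.1 hs
    obtain ⟨g₀, rfl⟩ := hg₀
    obtain ⟨l, hl⟩ := (Geo.mem_scalars_iff z).1 hz
    refine ⟨(g : Matrix ι ι F) - 1, fun u => by
      rw [Matrix.sub_mulVec, hgu, Matrix.one_mulVec, add_sub_cancel_left], ?_⟩
    have hsval : (s : Matrix ι ι F) = ((P⁻¹ : GL ι F) : Matrix ι ι F) *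
        (g : Matrix ι ι F) * (P : Matrix ι ι F) := by
      rw [← hsg]; simp [mul_assoc]
    have hsl : (s : Matrix ι ι F) = (l : F) • (g₀ : Matrix ι ι F₀).map F₀.subtype := by
      rw [← hgz, Units.val_mul, hl, Matrix.mul_smul, mul_one]; rfl
    have hsub : ((P⁻¹ : GL ι F) : Matrix ι ι F) * ((g : Matrix ι ι F) - 1) * (P : Matrix ι ι F) =
        (s : Matrix ι ι F) - 1 := by
      rw [mul_sub, sub_mul, hsval, mul_one, Units.inv_mul]
    rw [hsub]
    refine entries_mem_of_unipotent (fun i j => ((g₀ : Matrix ι ι F₀) i j).2) hsl l.ne_zero ?_ ?_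
    · rw [← hsub]
      have h2 : ((g : Matrix ι ι F) - 1) * ((g : Matrix ι ι F) - 1) = 0 := by
        refine Matrix.ext_of_mulVec_single fun i => ?_
        generalize (Pi.single i (1 : F) : ι → F) = u
        rw [← Matrix.mulVec_mulVec, Matrix.zero_mulVec]
        simp only [Matrix.sub_mulVec, hgu, Matrix.one_mulVec, add_sub_cancel_left,
          hf.bilinear.smul_left, hf.alternating, mul_zero, zero_smul]
      calc _ = ((P⁻¹ : GL ι F) : Matrix ι ι F) * (((g : Matrix ι ι F) - 1) *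
            ((P : Matrix ι ι F) * ((P⁻¹ : GL ι F) : Matrix ι ι F)) * ((g : Matrix ι ι F) - 1)) *
            (P : Matrix ι ι F) := by noncomm_ring
        _ = 0 := by rw [← Units.val_mul, mul_inv_cancel, Units.val_one, mul_one, h2]; simp
    · rw [← hsub]
      intro h0
      have h1 : (g : Matrix ι ι F) - 1 = 0 := by
        have := congrArg (fun m => (P : Matrix ι ι F) * m * ((P⁻¹ : GL ι F) : Matrix ι ι F)) h0
        simpa [← mul_assoc, ← Units.val_mul, mul_assoc ((g : Matrix ι ι F) - 1)] using this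
      have h2 := congrArg (· *ᵥ w) h1
      simp only [Matrix.sub_mulVec, hgu, Matrix.one_mulVec, add_sub_cancel_left, Matrix.zero_mulVec,
        smul_eq_zero] at h2
      exact h2.elim (mul_ne_zero ha hw) hv0
  refine hF₀ (top_le_iff.1 fun x _ => ?_)
  by_cases hx : x = 0
  · rw [hx]; exact zero_mem _
  obtain ⟨R, hRu, hRmem⟩ := hR 1 one_ne_zero
  obtain ⟨R', hR'u, hR'mem⟩ := hR x hx
  have hR' : R' = x • R := Matrix.ext_of_mulVec_single fun l => by
    rw [hR'u, Matrix.smul_mulVec, hRu, smul_smul, one_mul]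
  set T := ((P⁻¹ : GL ι F) : Matrix ι ι F) * R * (P : Matrix ι ι F) with hTdef
  obtain ⟨s, t, hst⟩ : ∃ s t, T s t ≠ 0 := by
    by_contra hcon
    push Not at hcon
    have hR0 : R = 0 := by
      have h1 : T = 0 := Matrix.ext hcon
      have := congrArg (fun m => (P : Matrix ι ι F) * m * ((P⁻¹ : GL ι F) : Matrix ι ι F)) h1
      simpa [T, ← mul_assoc, ← Units.val_mul, mul_assoc R] using this
    have h2 := hRu w
    rw [hR0, Matrix.zero_mulVec, one_mul, eq_comm, smul_eq_zero] at h2
    exact h2.elim hw hv0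
  have h1 := hR'mem s t
  rw [hR', Matrix.mul_smul, Matrix.smul_mul, ← hTdef, Matrix.smul_apply, smul_eq_mul] at h1
  rw [show x = x * T s t * (T s t)⁻¹ by field_simp]
  exact mul_mem h1 (inv_mem (hRmem s t))

theorem not_le_quadSimilarity [Fintype F] (hf : Geo.IsSymplecticForm f) (h4 : 4 ≤ Fintype.card ι)
    (h2 : (2 : F) = 0) {Q : (ι → F) → F} (hQ : Geo.IsNondegenerateQuadraticForm Q)
    (hpol : ∀ u v, QuadraticMap.polar Q u v = f u v) : ¬ isom f ≤ Geo.quadSimilarityGroup Q := by
  classical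
  intro hle
  obtain ⟨i₀⟩ : Nonempty ι := Fintype.card_pos_iff.1 (by omega)
  have hadd : ∀ u v, Q (u + v) = Q u + Q v + f u v := fun u v => by
    rw [← hpol]; simp only [QuadraticMap.polar]; ring
  have hdim : ∀ w : ι → F, 3 ≤ Module.finrank F (LinearMap.ker (MaxCl.flin hf.bilinear w)) := fun w => by
    have h1 := LinearMap.finrank_range_add_finrank_ker (MaxCl.flin hf.bilinear w)
    have h3 := Submodule.finrank_le (LinearMap.range (MaxCl.flin hf.bilinear w))
    rw [Module.finrank_self] at h3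
    rw [Module.finrank_fintype_fun_eq_card] at h1
    omega
  have hchar : CharP F 2 := by
    obtain ⟨p, hp⟩ := CharP.exists F
    haveI := hp
    have hd : p ∣ 2 := (CharP.cast_eq_zero_iff F p 2).1 (by exact_mod_cast h2)
    obtain ⟨e, hpp, -⟩ := FiniteField.card F p
    obtain rfl := (Nat.prime_dvd_prime_iff_eq hpp Nat.prime_two).1 hd
    exact hp
  haveI := hchar
  have hsqrt : ∀ a : F, ∃ b, b * b = a := fun a => by
    obtain ⟨b, hb⟩ := FiniteField.isSquare_of_char_two (ringChar.eq F 2) a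
    exact ⟨b, hb.symm⟩
  -- `Q` takes the value zero at some non-zero vector
  obtain ⟨u, hu0, hQu⟩ : ∃ u : ι → F, u ≠ 0 ∧ Q u = 0 := by
    let e : ι → F := Pi.single i₀ 1
    have he : e ≠ 0 := by simp [e]
    by_cases hQe : Q e = 0
    · exact ⟨e, he, hQe⟩
    obtain ⟨w, hwk, hwspan⟩ : ∃ w, f w e = 0 ∧ w ∉ Submodule.span F {e} := by
      by_contra hcon
      push Not at hcon
      have h1 := Submodule.finrank_mono
        (show LinearMap.ker (MaxCl.flin hf.bilinear e) ≤ Submodule.span F {e} from fun w hw => hcon w hw)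
      rw [finrank_span_singleton he] at h1
      have := hdim e
      omega
    obtain ⟨a, ha⟩ := hsqrt (Q w)
    obtain ⟨b, hb⟩ := hsqrt (Q e)
    have hb0 : b ≠ 0 := fun h0 => hQe (by rw [← hb, h0, zero_mul])
    refine ⟨b • w + a • e, fun h0 => hwspan ?_, ?_⟩
    · refine Submodule.mem_span_singleton.2 ⟨-(b⁻¹ * a), ?_⟩
      rw [eq_comm, ← sub_eq_zero, neg_smul, sub_neg_eq_add, mul_smul,
        show w + b⁻¹ • a • e = b⁻¹ • (b • w + a • e) by
          rw [smul_add, smul_smul b⁻¹ b, inv_mul_cancel₀ hb0, one_smul], h0, smul_zero]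
    · rw [hadd, hQ.smul, hQ.smul, hf.bilinear.smul_left, hf.bilinear.smul_right, hwk, pow_two,
        pow_two, hb, ha]
      linear_combination (Q e * Q w) * h2
  -- all vectors are singular
  have hall : ∀ v : ι → F, Q v = 0 := fun v => by
    by_cases hv : v = 0
    · have h := hQ.smul 0 0
      rw [zero_smul] at h
      rw [hv, h]; ring
    refine forall_of_invariant hf (P := fun v => Q v = 0) (fun g hg v h => ?_) hu0 hQu hv
    obtain ⟨c, hc⟩ := hle hg
    rw [hc, h, mul_zero]
  obtain ⟨x, hx⟩ := (hf.nondegenerate u hu0).2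
  apply hx
  rw [← hpol]
  simp [QuadraticMap.polar, hall]

theorem not_le_normalizer [Nonempty ι] (hf : Geo.IsSymplecticForm f) (hι : 5 ≤ Fintype.card ι)
    {R : Subgroup (GL ι F)} (hR : AbsIrr R) (hns : ¬ R ≤ Geo.scalars ι F)
    (hcl : ∀ x ∈ R, ∀ y ∈ R, x * y * x⁻¹ * y⁻¹ ∈ Geo.scalars ι F) :
    ¬ isom f ≤ Geo.subgroupNormalizer R := by
  intro hle
  obtain ⟨x, hx, hxs⟩ := SetLike.not_le_iff_exists.1 hns
  obtain ⟨v, hv⟩ : ∃ v, (x : Matrix ι ι F) *ᵥ v ∉ Submodule.span F {v} := by
    by_contra hcon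
    push Not at hcon
    obtain ⟨c, hc⟩ := scalar_of_eigen fun u _ => hcon u
    exact hxs (mem_scalars_of_smul_one hc)
  obtain ⟨g, hg, hgu⟩ := exists_transv hf v 1
  set c := g * x * g⁻¹ * x⁻¹ with hc
  have hcR : c ∈ R :=
    R.mul_mem ((Subgroup.mem_normalizer_iff.1 (hle hg) x).1 hx) (R.inv_mem hx)
  let φ := MaxCl.flin hf.bilinear v
  let L : (ι → F) →ₗ[F] F × F := φ.prod (φ.comp (Matrix.toLin' ((x⁻¹ : GL ι F) : Matrix ι ι F)))
  let U : Submodule F (ι → F) := LinearMap.ker L
  have hU : Fintype.card ι ≤ Module.finrank F U + 2 := by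
    have h1 := LinearMap.finrank_range_add_finrank_ker L
    have h2 := Submodule.finrank_le (LinearMap.range L)
    rw [Module.finrank_prod, Module.finrank_self] at h2
    rw [Module.finrank_fintype_fun_eq_card] at h1
    show _ ≤ Module.finrank F (LinearMap.ker L) + 2
    omega
  have hfix : ∀ u ∈ U, (c : Matrix ι ι F) *ᵥ u = u := by
    intro u hu
    obtain ⟨h1, h2⟩ := Prod.mk.inj (LinearMap.mem_ker.1 hu)
    change f u v = 0 at h1
    change f (((x⁻¹ : GL ι F) : Matrix ι ι F) *ᵥ u) v = 0 at h2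
    have hg' : ∀ w, f w v = 0 → ((g⁻¹ : GL ι F) : Matrix ι ι F) *ᵥ w = w := fun w hw => by
      conv_lhs => rw [show w = (g : Matrix ι ι F) *ᵥ w by rw [hgu, hw, mul_zero, zero_smul, add_zero]]
      exact inv_mulVec g w
    rw [hc, mulVec_mul, mulVec_mul, mulVec_mul, hg' _ h2, mulVec_inv, hgu, h1, mul_zero, zero_smul, add_zero]
  have hU0 : U ≠ ⊥ := fun h => by rw [h, finrank_bot] at hU; omega
  by_cases hcs : c ∈ Geo.scalars ι F
  · obtain ⟨a, ha⟩ := (Geo.mem_scalars_iff c).1 hcs
    obtain ⟨u, hu, hu0⟩ := (Submodule.ne_bot_iff U).1 hU0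
    have h1 := hfix u hu
    rw [ha, Matrix.smul_mulVec, Matrix.one_mulVec] at h1
    have ha1 : (a : F) = 1 := smul_left_injective F hu0 (h1.trans (one_smul F u).symm)
    have hc1 : c = 1 := Units.ext (by rw [ha, ha1, one_smul, Units.val_one])
    have hcomm : g * x = x * g := by
      rw [hc, mul_inv_eq_one, mul_inv_eq_iff_eq_mul] at hc1
      exact hc1
    obtain ⟨z, hz⟩ := (hf.nondegenerate v (fun h0 => hv (by rw [h0, Matrix.mulVec_zero]; exact zero_mem _))).1
    have h2 := congrArg (fun h : GL ι F => (h : Matrix ι ι F) *ᵥ z) hcomm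
    simp only [mulVec_mul] at h2
    rw [hgu, hgu, Matrix.mulVec_add, add_right_inj, Matrix.mulVec_smul, one_mul, one_mul] at h2
    refine hv ((Submodule.smul_mem_iff _ hz).1 ?_)
    rw [← h2]
    exact Submodule.smul_mem _ _ (Submodule.mem_span_singleton_self v)
  · obtain ⟨y, hy, hcy⟩ : ∃ y ∈ R, c * y ≠ y * c := by
      by_contra hcon
      push Not at hcon
      exact hcs (hR.scalar_of_comm hcon)
    obtain ⟨a, ha⟩ := (Geo.mem_scalars_iff _).1 (hcl c hcR y hy)
    have ha1 : (a : F) ≠ 1 := fun h1 => hcy <| by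
      have : c * y * c⁻¹ * y⁻¹ = 1 := Units.ext (by rw [ha, h1, one_smul, Units.val_one])
      rwa [mul_inv_eq_one, mul_inv_eq_iff_eq_mul] at this
    have hdis : U ⊓ translate y U = ⊥ := eq_bot_iff.2 fun u hu => by
      obtain ⟨hu1, hu2⟩ := hu
      obtain ⟨w, hw, rfl⟩ := mem_translate.1 hu2
      have h1 := hfix _ hu1
      have h2 : (c : Matrix ι ι F) * (y : Matrix ι ι F) = (a : F) • ((y : Matrix ι ι F) * (c : Matrix ι ι F)) := by
        rw [← Units.val_mul, ← Units.val_mul, show c * y = c * y * c⁻¹ * y⁻¹ * (y * c) by group, Units.val_mul,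
          ha, smul_mul_assoc, one_mul]
      rw [Matrix.mulVec_mulVec, h2, Matrix.smul_mulVec, ← Matrix.mulVec_mulVec, hfix w hw] at h1
      rw [Submodule.mem_bot]
      by_contra hne
      exact ha1 (smul_left_injective F hne (h1.trans (one_smul F _).symm))
    have h3 := Submodule.finrank_sup_add_finrank_inf_eq U (translate y U)
    rw [hdis, finrank_bot, add_zero, finrank_translate] at h3
    have h4 := Submodule.finrank_le (U ⊔ translate y U)
    rw [Module.finrank_fintype_fun_eq_card] at h4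
    omega

theorem not_le_tensorProductSubgroup (hf : Geo.IsSymplecticForm f) {m k : ℕ} (hm : 2 ≤ m) (hk : 2 ≤ k)
    (e : ι ≃ Fin m × Fin k) (P : GL ι F) : ¬ isom f ≤ Geo.tensorProductSubgroup m k e P := by
  intro hle
  have : NeZero m := ⟨by omega⟩
  have : NeZero k := ⟨by omega⟩
  let one : Fin k := ⟨1, by omega⟩
  have hone : one ≠ 0 := fun h => by simpa [one] using congrArg Fin.val h
  let W₀ : Submodule F (ι → F) :=
    Submodule.span F (Set.range fun a : Fin m => (Pi.single (e.symm (a, 0)) 1 : ι → F))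
  let W : Submodule F (ι → F) := translate P W₀
  have hmem : ∀ v, v ∈ W₀ ↔ ∀ i, (e i).2 ≠ 0 → v i = 0 := by
    intro v
    constructor
    · intro hv
      induction hv using Submodule.span_induction with
      | mem x hx =>
        obtain ⟨a, rfl⟩ := hx
        intro i hi
        exact Pi.single_eq_of_ne (fun h => hi (by rw [h, Equiv.apply_symm_apply])) _
      | zero => intro i _; rfl
      | add a b _ _ ha hb => intro i hi; rw [Pi.add_apply, ha i hi, hb i hi, add_zero]
      | smul c a _ ha => intro i hi; rw [Pi.smul_apply, ha i hi, smul_zero]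
    · intro hv
      have : v = ∑ a : Fin m, v (e.symm (a, 0)) • (Pi.single (e.symm (a, 0)) 1 : ι → F) := by
        funext i
        rw [Finset.sum_apply]
        by_cases hi : (e i).2 = 0
        · rw [Finset.sum_eq_single (e i).1]
          · have : e.symm ((e i).1, 0) = i := by rw [← hi, Prod.mk.eta, Equiv.symm_apply_apply]
            simp [this]
          · intro a _ ha
            rw [Pi.smul_apply, Pi.single_eq_of_ne, smul_zero]
            exact fun h => ha (by rw [h, Equiv.apply_symm_apply])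
          · simp
        · rw [hv i hi, Finset.sum_eq_zero]
          intro a _
          rw [Pi.smul_apply, Pi.single_eq_of_ne, smul_zero]
          exact fun h => hi (by rw [h, Equiv.apply_symm_apply])
      rw [this]
      exact Submodule.sum_mem _ fun a _ => Submodule.smul_mem _ _ (Submodule.subset_span ⟨a, rfl⟩)
  have hdim : Module.finrank F W ≤ m := by
    rw [finrank_translate]
    exact (finrank_range_le_card _).trans_eq (Fintype.card_fin m)
  have hcard : Fintype.card ι = m * k := by rw [Fintype.card_congr e]; simp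
  have h := scalar_of_invariant hf (Set.range fun A => coordEquiv e P (kronOne m k A)) (W := W) ?_
    (by rw [hcard]; nlinarith) ?_ ?_ _ ⟨Matrix.single 0 0 1, rfl⟩
  · obtain ⟨c, hc⟩ := h
    have h1 : coordEquiv e P (kronOne m k (Matrix.single 0 0 1)) = coordEquiv e P (c • 1) := by
      rw [map_smul, map_one]; exact hc
    have h2 := (coordEquiv e P).injective h1
    let oneM : Fin m := ⟨1, by omega⟩
    have hM : oneM ≠ 0 := fun h => by simpa [oneM] using congrArg Fin.val h
    have e1 := congrFun (congrFun h2 (0, 0)) (0, 0)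
    have e2 := congrFun (congrFun h2 (oneM, 0)) (oneM, 0)
    simp [kronOne, Matrix.single, Ne.symm hM] at e1 e2
    rw [← e2] at e1
    exact one_ne_zero e1
  · refine (Submodule.ne_bot_iff _).2 ⟨_, mem_translate.2
      ⟨_, Submodule.subset_span ⟨0, rfl⟩, rfl⟩, ?_⟩
    rw [ne_eq, mulVec_eq_zero_iff]
    simp
  · rintro _ ⟨A, rfl⟩ v hv
    obtain ⟨w, hw, rfl⟩ := mem_translate.1 hv
    refine mem_translate.2 ⟨(kronOne m k A).submatrix e e *ᵥ w, (hmem _).2 fun i hi => ?_, ?_⟩
    · show ∑ j, _ * _ = 0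
      refine Finset.sum_eq_zero fun j _ => ?_
      by_cases hj : (e j).2 = 0
      · simp [kronOne, hj, hi]
      · rw [(hmem w).1 hw j hj, mul_zero]
    · show _ = coordEquiv e P (kronOne m k A) *ᵥ _
      rw [coordEquiv_apply, ← Matrix.mulVec_mulVec, ← Matrix.mulVec_mulVec, inv_mulVec]
  · rintro g hg _ ⟨A, rfl⟩
    obtain ⟨_, ⟨s, ⟨a, b, hab⟩, rfl⟩, hs⟩ := hle hg
    refine ⟨(a : Matrix (Fin m) (Fin m) F) * A * ((a⁻¹ : GL (Fin m) F) : Matrix (Fin m) (Fin m) F), ?_⟩
    have hg' : g = coordGL e P s := by rw [coordGL_eq]; exact hs.symm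
    have hinv : ((s⁻¹ : GL (Fin m × Fin k) F) : Matrix (Fin m × Fin k) (Fin m × Fin k) F) =
        ((a⁻¹ : GL (Fin m) F) : Matrix (Fin m) (Fin m) F) ⊗ₖ
          ((b⁻¹ : GL (Fin k) F) : Matrix (Fin k) (Fin k) F) := by
      refine Units.inv_eq_of_mul_eq_one_right ?_
      rw [hab, ← Matrix.mul_kronecker_mul, Units.mul_inv, Units.mul_inv, Matrix.one_kronecker_one]
    show coordEquiv e P _ = _
    rw [hg', ← map_inv, coordGL_val, coordGL_val, ← map_mul, ← map_mul]
    congr 1
    show _ ⊗ₖ (1 : Matrix (Fin k) (Fin k) F) = _ * (A ⊗ₖ 1) * _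
    rw [hab, hinv, ← Matrix.mul_kronecker_mul, ← Matrix.mul_kronecker_mul, mul_one, Units.mul_inv]

end Cfsg.Agent.Aschbacher.SpExplicit
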